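import Groth.Agent.Lib.Helper36.Grow.St0

/-! The classification of numerical types with at most nine indices all of which are
`(-2)`-indices (helper36). -/

set_option autoImplicit false
open Finset
open Models Models.NumericalType
open Groth.Agent.Lib.Helper36

namespace Groth.Agent.Lib.Helper36.Grow

theorem classify {n : ℕ} {T : Models.NumericalType n} {b : Fin n → Fin n → ℤ} (C : NT.AffCtx T b)
    (hn : n ≤ 9) : NT.IsAffOf AffKnown b := by
  refine st0 C hn (e := fun _ => ⟨0, T.pos⟩) ⟨fun i j _ => Subsingleton.elim i j, fun i j hij => ?_⟩
  exact absurd (Subsingleton.elim i j) hij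

end Groth.Agent.Lib.Helper36.Grow
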