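import Groth.Agent.Lib.Helper36.NTEmb

/-! Diagrams of finite and affine type with at most nine nodes (generated, helper36). -/

set_option autoImplicit false

namespace Groth.Agent.Lib.Helper36.Grow

/-- Finite type diagram number 0. -/
def D0 : Fin 1 → Fin 1 → ℤ := ![![0]]

/-- Finite type diagram number 1. -/
def D1 : Fin 2 → Fin 2 → ℤ := ![![0, 1], ![1, 0]]

/-- Finite type diagram number 2. -/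
def D2 : Fin 2 → Fin 2 → ℤ := ![![0, 1], ![2, 0]]

/-- Finite type diagram number 3. -/
def D3 : Fin 2 → Fin 2 → ℤ := ![![0, 1], ![3, 0]]

/-- Finite type diagram number 4. -/
def D4 : Fin 3 → Fin 3 → ℤ := ![![0, 1, 0], ![1, 0, 1], ![0, 1, 0]]

/-- Finite type diagram number 5. -/
def D5 : Fin 3 → Fin 3 → ℤ := ![![0, 1, 0], ![1, 0, 1], ![0, 2, 0]]

/-- Finite type diagram number 6. -/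
def D6 : Fin 3 → Fin 3 → ℤ := ![![0, 1, 0], ![1, 0, 2], ![0, 1, 0]]

/-- Finite type diagram number 7. -/
def D7 : Fin 4 → Fin 4 → ℤ := ![![0, 1, 0, 0], ![1, 0, 1, 0], ![0, 1, 0, 1], ![0, 0, 1, 0]]

/-- Finite type diagram number 8. -/
def D8 : Fin 4 → Fin 4 → ℤ := ![![0, 1, 0, 0], ![1, 0, 1, 0], ![0, 1, 0, 1], ![0, 0, 2, 0]]

/-- Finite type diagram number 9. -/
def D9 : Fin 4 → Fin 4 → ℤ := ![![0, 1, 0, 0], ![1, 0, 1, 0], ![0, 1, 0, 2], ![0, 0, 1, 0]]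

/-- Finite type diagram number 10. -/
def D10 : Fin 4 → Fin 4 → ℤ := ![![0, 1, 0, 0], ![1, 0, 1, 1], ![0, 1, 0, 0], ![0, 1, 0, 0]]

/-- Finite type diagram number 11. -/
def D11 : Fin 4 → Fin 4 → ℤ := ![![0, 1, 0, 0], ![1, 0, 1, 0], ![0, 2, 0, 1], ![0, 0, 1, 0]]

/-- Finite type diagram number 12. -/
def D12 : Fin 5 → Fin 5 → ℤ := ![![0, 1, 0, 0, 0], ![1, 0, 1, 0, 0], ![0, 1, 0, 1, 0], ![0, 0, 1, 0, 1], ![0, 0, 0, 1, 0]]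

/-- Finite type diagram number 13. -/
def D13 : Fin 5 → Fin 5 → ℤ := ![![0, 1, 0, 0, 0], ![1, 0, 1, 0, 0], ![0, 1, 0, 1, 0], ![0, 0, 1, 0, 1], ![0, 0, 0, 2, 0]]

/-- Finite type diagram number 14. -/
def D14 : Fin 5 → Fin 5 → ℤ := ![![0, 1, 0, 0, 0], ![1, 0, 1, 0, 0], ![0, 1, 0, 1, 0], ![0, 0, 1, 0, 2], ![0, 0, 0, 1, 0]]

/-- Finite type diagram number 15. -/
def D15 : Fin 5 → Fin 5 → ℤ := ![![0, 1, 0, 0, 0], ![1, 0, 1, 0, 0], ![0, 1, 0, 1, 1], ![0, 0, 1, 0, 0], ![0, 0, 1, 0, 0]]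

/-- Finite type diagram number 16. -/
def D16 : Fin 6 → Fin 6 → ℤ := ![![0, 1, 0, 0, 0, 0], ![1, 0, 1, 0, 0, 0], ![0, 1, 0, 1, 0, 0], ![0, 0, 1, 0, 1, 0], ![0, 0, 0, 1, 0, 1], ![0, 0, 0, 0, 1, 0]]

/-- Finite type diagram number 17. -/
def D17 : Fin 6 → Fin 6 → ℤ := ![![0, 1, 0, 0, 0, 0], ![1, 0, 1, 0, 0, 0], ![0, 1, 0, 1, 0, 0], ![0, 0, 1, 0, 1, 0], ![0, 0, 0, 1, 0, 1], ![0, 0, 0, 0, 2, 0]]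

/-- Finite type diagram number 18. -/
def D18 : Fin 6 → Fin 6 → ℤ := ![![0, 1, 0, 0, 0, 0], ![1, 0, 1, 0, 0, 0], ![0, 1, 0, 1, 0, 0], ![0, 0, 1, 0, 1, 0], ![0, 0, 0, 1, 0, 2], ![0, 0, 0, 0, 1, 0]]

/-- Finite type diagram number 19. -/
def D19 : Fin 6 → Fin 6 → ℤ := ![![0, 1, 0, 0, 0, 0], ![1, 0, 1, 0, 0, 0], ![0, 1, 0, 1, 0, 0], ![0, 0, 1, 0, 1, 1], ![0, 0, 0, 1, 0, 0], ![0, 0, 0, 1, 0, 0]]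

/-- Finite type diagram number 20. -/
def D20 : Fin 6 → Fin 6 → ℤ := ![![0, 1, 0, 0, 0, 0], ![1, 0, 1, 0, 0, 0], ![0, 1, 0, 1, 0, 1], ![0, 0, 1, 0, 1, 0], ![0, 0, 0, 1, 0, 0], ![0, 0, 1, 0, 0, 0]]

/-- Finite type diagram number 21. -/
def D21 : Fin 7 → Fin 7 → ℤ := ![![0, 1, 0, 0, 0, 0, 0], ![1, 0, 1, 0, 0, 0, 0], ![0, 1, 0, 1, 0, 0, 0], ![0, 0, 1, 0, 1, 0, 0], ![0, 0, 0, 1, 0, 1, 0], ![0, 0, 0, 0, 1, 0, 1], ![0, 0, 0, 0, 0, 1, 0]]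

/-- Finite type diagram number 22. -/
def D22 : Fin 7 → Fin 7 → ℤ := ![![0, 1, 0, 0, 0, 0, 0], ![1, 0, 1, 0, 0, 0, 0], ![0, 1, 0, 1, 0, 0, 0], ![0, 0, 1, 0, 1, 0, 0], ![0, 0, 0, 1, 0, 1, 0], ![0, 0, 0, 0, 1, 0, 1], ![0, 0, 0, 0, 0, 2, 0]]

/-- Finite type diagram number 23. -/
def D23 : Fin 7 → Fin 7 → ℤ := ![![0, 1, 0, 0, 0, 0, 0], ![1, 0, 1, 0, 0, 0, 0], ![0, 1, 0, 1, 0, 0, 0], ![0, 0, 1, 0, 1, 0, 0], ![0, 0, 0, 1, 0, 1, 0], ![0, 0, 0, 0, 1, 0, 2], ![0, 0, 0, 0, 0, 1, 0]]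

/-- Finite type diagram number 24. -/
def D24 : Fin 7 → Fin 7 → ℤ := ![![0, 1, 0, 0, 0, 0, 0], ![1, 0, 1, 0, 0, 0, 0], ![0, 1, 0, 1, 0, 0, 0], ![0, 0, 1, 0, 1, 0, 0], ![0, 0, 0, 1, 0, 1, 1], ![0, 0, 0, 0, 1, 0, 0], ![0, 0, 0, 0, 1, 0, 0]]

/-- Finite type diagram number 25. -/
def D25 : Fin 7 → Fin 7 → ℤ := ![![0, 1, 0, 0, 0, 0, 0], ![1, 0, 1, 0, 0, 0, 0], ![0, 1, 0, 1, 0, 0, 0], ![0, 0, 1, 0, 1, 0, 1], ![0, 0, 0, 1, 0, 1, 0], ![0, 0, 0, 0, 1, 0, 0], ![0, 0, 0, 1, 0, 0, 0]]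

/-- Finite type diagram number 26. -/
def D26 : Fin 8 → Fin 8 → ℤ := ![![0, 1, 0, 0, 0, 0, 0, 0], ![1, 0, 1, 0, 0, 0, 0, 0], ![0, 1, 0, 1, 0, 0, 0, 0], ![0, 0, 1, 0, 1, 0, 0, 0], ![0, 0, 0, 1, 0, 1, 0, 0], ![0, 0, 0, 0, 1, 0, 1, 0], ![0, 0, 0, 0, 0, 1, 0, 1], ![0, 0, 0, 0, 0, 0, 1, 0]]

/-- Finite type diagram number 27. -/
def D27 : Fin 8 → Fin 8 → ℤ := ![![0, 1, 0, 0, 0, 0, 0, 0], ![1, 0, 1, 0, 0, 0, 0, 0], ![0, 1, 0, 1, 0, 0, 0, 0], ![0, 0, 1, 0, 1, 0, 0, 0], ![0, 0, 0, 1, 0, 1, 0, 0], ![0, 0, 0, 0, 1, 0, 1, 0], ![0, 0, 0, 0, 0, 1, 0, 1], ![0, 0, 0, 0, 0, 0, 2, 0]]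

/-- Finite type diagram number 28. -/
def D28 : Fin 8 → Fin 8 → ℤ := ![![0, 1, 0, 0, 0, 0, 0, 0], ![1, 0, 1, 0, 0, 0, 0, 0], ![0, 1, 0, 1, 0, 0, 0, 0], ![0, 0, 1, 0, 1, 0, 0, 0], ![0, 0, 0, 1, 0, 1, 0, 0], ![0, 0, 0, 0, 1, 0, 1, 0], ![0, 0, 0, 0, 0, 1, 0, 2], ![0, 0, 0, 0, 0, 0, 1, 0]]

/-- Finite type diagram number 29. -/
def D29 : Fin 8 → Fin 8 → ℤ := ![![0, 1, 0, 0, 0, 0, 0, 0], ![1, 0, 1, 0, 0, 0, 0, 0], ![0, 1, 0, 1, 0, 0, 0, 0], ![0, 0, 1, 0, 1, 0, 0, 0], ![0, 0, 0, 1, 0, 1, 0, 0], ![0, 0, 0, 0, 1, 0, 1, 1], ![0, 0, 0, 0, 0, 1, 0, 0], ![0, 0, 0, 0, 0, 1, 0, 0]]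

/-- Finite type diagram number 30. -/
def D30 : Fin 8 → Fin 8 → ℤ := ![![0, 1, 0, 0, 0, 0, 0, 0], ![1, 0, 1, 0, 0, 0, 0, 0], ![0, 1, 0, 1, 0, 0, 0, 0], ![0, 0, 1, 0, 1, 0, 0, 0], ![0, 0, 0, 1, 0, 1, 0, 1], ![0, 0, 0, 0, 1, 0, 1, 0], ![0, 0, 0, 0, 0, 1, 0, 0], ![0, 0, 0, 0, 1, 0, 0, 0]]

/-- Finite type diagram number 31. -/
def D31 : Fin 9 → Fin 9 → ℤ := ![![0, 1, 0, 0, 0, 0, 0, 0, 0], ![1, 0, 1, 0, 0, 0, 0, 0, 0], ![0, 1, 0, 1, 0, 0, 0, 0, 0], ![0, 0, 1, 0, 1, 0, 0, 0, 0], ![0, 0, 0, 1, 0, 1, 0, 0, 0], ![0, 0, 0, 0, 1, 0, 1, 0, 0], ![0, 0, 0, 0, 0, 1, 0, 1, 0], ![0, 0, 0, 0, 0, 0, 1, 0, 1], ![0, 0, 0, 0, 0, 0, 0, 1, 0]]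

/-- Finite type diagram number 32. -/
def D32 : Fin 9 → Fin 9 → ℤ := ![![0, 1, 0, 0, 0, 0, 0, 0, 0], ![1, 0, 1, 0, 0, 0, 0, 0, 0], ![0, 1, 0, 1, 0, 0, 0, 0, 0], ![0, 0, 1, 0, 1, 0, 0, 0, 0], ![0, 0, 0, 1, 0, 1, 0, 0, 0], ![0, 0, 0, 0, 1, 0, 1, 0, 0], ![0, 0, 0, 0, 0, 1, 0, 1, 0], ![0, 0, 0, 0, 0, 0, 1, 0, 1], ![0, 0, 0, 0, 0, 0, 0, 2, 0]]

/-- Finite type diagram number 33. -/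
def D33 : Fin 9 → Fin 9 → ℤ := ![![0, 1, 0, 0, 0, 0, 0, 0, 0], ![1, 0, 1, 0, 0, 0, 0, 0, 0], ![0, 1, 0, 1, 0, 0, 0, 0, 0], ![0, 0, 1, 0, 1, 0, 0, 0, 0], ![0, 0, 0, 1, 0, 1, 0, 0, 0], ![0, 0, 0, 0, 1, 0, 1, 0, 0], ![0, 0, 0, 0, 0, 1, 0, 1, 0], ![0, 0, 0, 0, 0, 0, 1, 0, 2], ![0, 0, 0, 0, 0, 0, 0, 1, 0]]

/-- Finite type diagram number 34. -/
def D34 : Fin 9 → Fin 9 → ℤ := ![![0, 1, 0, 0, 0, 0, 0, 0, 0], ![1, 0, 1, 0, 0, 0, 0, 0, 0], ![0, 1, 0, 1, 0, 0, 0, 0, 0], ![0, 0, 1, 0, 1, 0, 0, 0, 0], ![0, 0, 0, 1, 0, 1, 0, 0, 0], ![0, 0, 0, 0, 1, 0, 1, 0, 0], ![0, 0, 0, 0, 0, 1, 0, 1, 1], ![0, 0, 0, 0, 0, 0, 1, 0, 0], ![0, 0, 0, 0, 0, 0, 1, 0, 0]]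

/-- Affine type diagram `t5_0`. -/
def M_t5_0 : Fin 5 → Fin 5 → ℤ := ![![0, 1, 0, 0, 1], ![1, 0, 1, 0, 0], ![0, 1, 0, 1, 0], ![0, 0, 1, 0, 1], ![1, 0, 0, 1, 0]]

/-- Affine type diagram `t5_1`. -/
def M_t5_1 : Fin 5 → Fin 5 → ℤ := ![![0, 1, 0, 0, 0], ![1, 0, 1, 0, 0], ![0, 1, 0, 2, 0], ![0, 0, 1, 0, 1], ![0, 0, 0, 1, 0]]

/-- Affine type diagram `t5_2`. -/
def M_t5_2 : Fin 5 → Fin 5 → ℤ := ![![0, 1, 0, 0, 0], ![1, 0, 1, 0, 0], ![0, 1, 0, 1, 0], ![0, 0, 2, 0, 1], ![0, 0, 0, 1, 0]]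

/-- Affine type diagram `t5_3`. -/
def M_t5_3 : Fin 5 → Fin 5 → ℤ := ![![0, 2, 0, 0, 0], ![1, 0, 1, 0, 0], ![0, 1, 0, 1, 0], ![0, 0, 1, 0, 2], ![0, 0, 0, 1, 0]]

/-- Affine type diagram `t5_4`. -/
def M_t5_4 : Fin 5 → Fin 5 → ℤ := ![![0, 2, 0, 0, 0], ![1, 0, 1, 0, 0], ![0, 1, 0, 1, 0], ![0, 0, 1, 0, 1], ![0, 0, 0, 2, 0]]

/-- Affine type diagram `t5_5`. -/
def M_t5_5 : Fin 5 → Fin 5 → ℤ := ![![0, 1, 0, 0, 0], ![2, 0, 1, 0, 0], ![0, 1, 0, 1, 0], ![0, 0, 1, 0, 2], ![0, 0, 0, 1, 0]]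

/-- Affine type diagram `t5_6`. -/
def M_t5_6 : Fin 5 → Fin 5 → ℤ := ![![0, 1, 1, 1, 1], ![1, 0, 0, 0, 0], ![1, 0, 0, 0, 0], ![1, 0, 0, 0, 0], ![1, 0, 0, 0, 0]]

/-- Affine type diagram `t5_7`. -/
def M_t5_7 : Fin 5 → Fin 5 → ℤ := ![![0, 1, 0, 0, 0], ![2, 0, 1, 0, 0], ![0, 1, 0, 1, 1], ![0, 0, 1, 0, 0], ![0, 0, 1, 0, 0]]

/-- Affine type diagram `t5_8`. -/
def M_t5_8 : Fin 5 → Fin 5 → ℤ := ![![0, 2, 0, 0, 0], ![1, 0, 1, 0, 0], ![0, 1, 0, 1, 1], ![0, 0, 1, 0, 0], ![0, 0, 1, 0, 0]]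

/-- Affine type diagram `t6_0`. -/
def M_t6_0 : Fin 6 → Fin 6 → ℤ := ![![0, 1, 0, 0, 0, 1], ![1, 0, 1, 0, 0, 0], ![0, 1, 0, 1, 0, 0], ![0, 0, 1, 0, 1, 0], ![0, 0, 0, 1, 0, 1], ![1, 0, 0, 0, 1, 0]]

/-- Affine type diagram `t6_1`. -/
def M_t6_1 : Fin 6 → Fin 6 → ℤ := ![![0, 2, 0, 0, 0, 0], ![1, 0, 1, 0, 0, 0], ![0, 1, 0, 1, 0, 0], ![0, 0, 1, 0, 1, 0], ![0, 0, 0, 1, 0, 2], ![0, 0, 0, 0, 1, 0]]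

/-- Affine type diagram `t6_2`. -/
def M_t6_2 : Fin 6 → Fin 6 → ℤ := ![![0, 2, 0, 0, 0, 0], ![1, 0, 1, 0, 0, 0], ![0, 1, 0, 1, 0, 0], ![0, 0, 1, 0, 1, 0], ![0, 0, 0, 1, 0, 1], ![0, 0, 0, 0, 2, 0]]

/-- Affine type diagram `t6_3`. -/
def M_t6_3 : Fin 6 → Fin 6 → ℤ := ![![0, 1, 0, 0, 0, 0], ![2, 0, 1, 0, 0, 0], ![0, 1, 0, 1, 0, 0], ![0, 0, 1, 0, 1, 0], ![0, 0, 0, 1, 0, 2], ![0, 0, 0, 0, 1, 0]]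

/-- Affine type diagram `t6_4`. -/
def M_t6_4 : Fin 6 → Fin 6 → ℤ := ![![0, 1, 0, 0, 0, 0], ![2, 0, 1, 0, 0, 0], ![0, 1, 0, 1, 0, 0], ![0, 0, 1, 0, 1, 1], ![0, 0, 0, 1, 0, 0], ![0, 0, 0, 1, 0, 0]]

/-- Affine type diagram `t6_5`. -/
def M_t6_5 : Fin 6 → Fin 6 → ℤ := ![![0, 2, 0, 0, 0, 0], ![1, 0, 1, 0, 0, 0], ![0, 1, 0, 1, 0, 0], ![0, 0, 1, 0, 1, 1], ![0, 0, 0, 1, 0, 0], ![0, 0, 0, 1, 0, 0]]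

/-- Affine type diagram `t6_6`. -/
def M_t6_6 : Fin 6 → Fin 6 → ℤ := ![![0, 0, 1, 0, 0, 0], ![0, 0, 1, 0, 0, 0], ![1, 1, 0, 1, 0, 0], ![0, 0, 1, 0, 1, 1], ![0, 0, 0, 1, 0, 0], ![0, 0, 0, 1, 0, 0]]

/-- Affine type diagram `t7_0`. -/
def M_t7_0 : Fin 7 → Fin 7 → ℤ := ![![0, 1, 0, 0, 0, 0, 1], ![1, 0, 1, 0, 0, 0, 0], ![0, 1, 0, 1, 0, 0, 0], ![0, 0, 1, 0, 1, 0, 0], ![0, 0, 0, 1, 0, 1, 0], ![0, 0, 0, 0, 1, 0, 1], ![1, 0, 0, 0, 0, 1, 0]]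

/-- Affine type diagram `t7_1`. -/
def M_t7_1 : Fin 7 → Fin 7 → ℤ := ![![0, 2, 0, 0, 0, 0, 0], ![1, 0, 1, 0, 0, 0, 0], ![0, 1, 0, 1, 0, 0, 0], ![0, 0, 1, 0, 1, 0, 0], ![0, 0, 0, 1, 0, 1, 0], ![0, 0, 0, 0, 1, 0, 2], ![0, 0, 0, 0, 0, 1, 0]]

/-- Affine type diagram `t7_2`. -/
def M_t7_2 : Fin 7 → Fin 7 → ℤ := ![![0, 2, 0, 0, 0, 0, 0], ![1, 0, 1, 0, 0, 0, 0], ![0, 1, 0, 1, 0, 0, 0], ![0, 0, 1, 0, 1, 0, 0], ![0, 0, 0, 1, 0, 1, 0], ![0, 0, 0, 0, 1, 0, 1], ![0, 0, 0, 0, 0, 2, 0]]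

/-- Affine type diagram `t7_3`. -/
def M_t7_3 : Fin 7 → Fin 7 → ℤ := ![![0, 1, 0, 0, 0, 0, 0], ![2, 0, 1, 0, 0, 0, 0], ![0, 1, 0, 1, 0, 0, 0], ![0, 0, 1, 0, 1, 0, 0], ![0, 0, 0, 1, 0, 1, 0], ![0, 0, 0, 0, 1, 0, 2], ![0, 0, 0, 0, 0, 1, 0]]

/-- Affine type diagram `t7_4`. -/
def M_t7_4 : Fin 7 → Fin 7 → ℤ := ![![0, 1, 0, 0, 0, 0, 0], ![2, 0, 1, 0, 0, 0, 0], ![0, 1, 0, 1, 0, 0, 0], ![0, 0, 1, 0, 1, 0, 0], ![0, 0, 0, 1, 0, 1, 1], ![0, 0, 0, 0, 1, 0, 0], ![0, 0, 0, 0, 1, 0, 0]]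

/-- Affine type diagram `t7_5`. -/
def M_t7_5 : Fin 7 → Fin 7 → ℤ := ![![0, 2, 0, 0, 0, 0, 0], ![1, 0, 1, 0, 0, 0, 0], ![0, 1, 0, 1, 0, 0, 0], ![0, 0, 1, 0, 1, 0, 0], ![0, 0, 0, 1, 0, 1, 1], ![0, 0, 0, 0, 1, 0, 0], ![0, 0, 0, 0, 1, 0, 0]]

/-- Affine type diagram `t7_6`. -/
def M_t7_6 : Fin 7 → Fin 7 → ℤ := ![![0, 0, 1, 0, 0, 0, 0], ![0, 0, 1, 0, 0, 0, 0], ![1, 1, 0, 1, 0, 0, 0], ![0, 0, 1, 0, 1, 0, 0], ![0, 0, 0, 1, 0, 1, 1], ![0, 0, 0, 0, 1, 0, 0], ![0, 0, 0, 0, 1, 0, 0]]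

/-- Affine type diagram `t7_7`. -/
def M_t7_7 : Fin 7 → Fin 7 → ℤ := ![![0, 1, 0, 0, 0, 0, 0], ![1, 0, 1, 0, 0, 0, 0], ![0, 1, 0, 0, 1, 0, 1], ![0, 0, 0, 0, 1, 0, 0], ![0, 0, 1, 1, 0, 0, 0], ![0, 0, 0, 0, 0, 0, 1], ![0, 0, 1, 0, 0, 1, 0]]

/-- Affine type diagram `t8_0`. -/
def M_t8_0 : Fin 8 → Fin 8 → ℤ := ![![0, 1, 0, 0, 0, 0, 0, 1], ![1, 0, 1, 0, 0, 0, 0, 0], ![0, 1, 0, 1, 0, 0, 0, 0], ![0, 0, 1, 0, 1, 0, 0, 0], ![0, 0, 0, 1, 0, 1, 0, 0], ![0, 0, 0, 0, 1, 0, 1, 0], ![0, 0, 0, 0, 0, 1, 0, 1], ![1, 0, 0, 0, 0, 0, 1, 0]]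

/-- Affine type diagram `t8_1`. -/
def M_t8_1 : Fin 8 → Fin 8 → ℤ := ![![0, 2, 0, 0, 0, 0, 0, 0], ![1, 0, 1, 0, 0, 0, 0, 0], ![0, 1, 0, 1, 0, 0, 0, 0], ![0, 0, 1, 0, 1, 0, 0, 0], ![0, 0, 0, 1, 0, 1, 0, 0], ![0, 0, 0, 0, 1, 0, 1, 0], ![0, 0, 0, 0, 0, 1, 0, 2], ![0, 0, 0, 0, 0, 0, 1, 0]]

/-- Affine type diagram `t8_2`. -/
def M_t8_2 : Fin 8 → Fin 8 → ℤ := ![![0, 2, 0, 0, 0, 0, 0, 0], ![1, 0, 1, 0, 0, 0, 0, 0], ![0, 1, 0, 1, 0, 0, 0, 0], ![0, 0, 1, 0, 1, 0, 0, 0], ![0, 0, 0, 1, 0, 1, 0, 0], ![0, 0, 0, 0, 1, 0, 1, 0], ![0, 0, 0, 0, 0, 1, 0, 1], ![0, 0, 0, 0, 0, 0, 2, 0]]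

/-- Affine type diagram `t8_3`. -/
def M_t8_3 : Fin 8 → Fin 8 → ℤ := ![![0, 1, 0, 0, 0, 0, 0, 0], ![2, 0, 1, 0, 0, 0, 0, 0], ![0, 1, 0, 1, 0, 0, 0, 0], ![0, 0, 1, 0, 1, 0, 0, 0], ![0, 0, 0, 1, 0, 1, 0, 0], ![0, 0, 0, 0, 1, 0, 1, 0], ![0, 0, 0, 0, 0, 1, 0, 2], ![0, 0, 0, 0, 0, 0, 1, 0]]

/-- Affine type diagram `t8_4`. -/
def M_t8_4 : Fin 8 → Fin 8 → ℤ := ![![0, 1, 0, 0, 0, 0, 0, 0], ![2, 0, 1, 0, 0, 0, 0, 0], ![0, 1, 0, 1, 0, 0, 0, 0], ![0, 0, 1, 0, 1, 0, 0, 0], ![0, 0, 0, 1, 0, 1, 0, 0], ![0, 0, 0, 0, 1, 0, 1, 1], ![0, 0, 0, 0, 0, 1, 0, 0], ![0, 0, 0, 0, 0, 1, 0, 0]]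

/-- Affine type diagram `t8_5`. -/
def M_t8_5 : Fin 8 → Fin 8 → ℤ := ![![0, 2, 0, 0, 0, 0, 0, 0], ![1, 0, 1, 0, 0, 0, 0, 0], ![0, 1, 0, 1, 0, 0, 0, 0], ![0, 0, 1, 0, 1, 0, 0, 0], ![0, 0, 0, 1, 0, 1, 0, 0], ![0, 0, 0, 0, 1, 0, 1, 1], ![0, 0, 0, 0, 0, 1, 0, 0], ![0, 0, 0, 0, 0, 1, 0, 0]]

/-- Affine type diagram `t8_6`. -/
def M_t8_6 : Fin 8 → Fin 8 → ℤ := ![![0, 0, 1, 0, 0, 0, 0, 0], ![0, 0, 1, 0, 0, 0, 0, 0], ![1, 1, 0, 1, 0, 0, 0, 0], ![0, 0, 1, 0, 1, 0, 0, 0], ![0, 0, 0, 1, 0, 1, 0, 0], ![0, 0, 0, 0, 1, 0, 1, 1], ![0, 0, 0, 0, 0, 1, 0, 0], ![0, 0, 0, 0, 0, 1, 0, 0]]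

/-- Affine type diagram `t8_7`. -/
def M_t8_7 : Fin 8 → Fin 8 → ℤ := ![![0, 1, 0, 0, 0, 0, 0, 0], ![1, 0, 1, 0, 0, 0, 0, 0], ![0, 1, 0, 1, 0, 0, 0, 0], ![0, 0, 1, 0, 1, 0, 0, 1], ![0, 0, 0, 1, 0, 1, 0, 0], ![0, 0, 0, 0, 1, 0, 1, 0], ![0, 0, 0, 0, 0, 1, 0, 0], ![0, 0, 0, 1, 0, 0, 0, 0]]

/-- Affine type diagram `t9_0`. -/
def M_t9_0 : Fin 9 → Fin 9 → ℤ := ![![0, 1, 0, 0, 0, 0, 0, 0, 1], ![1, 0, 1, 0, 0, 0, 0, 0, 0], ![0, 1, 0, 1, 0, 0, 0, 0, 0], ![0, 0, 1, 0, 1, 0, 0, 0, 0], ![0, 0, 0, 1, 0, 1, 0, 0, 0], ![0, 0, 0, 0, 1, 0, 1, 0, 0], ![0, 0, 0, 0, 0, 1, 0, 1, 0], ![0, 0, 0, 0, 0, 0, 1, 0, 1], ![1, 0, 0, 0, 0, 0, 0, 1, 0]]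

/-- Affine type diagram `t9_1`. -/
def M_t9_1 : Fin 9 → Fin 9 → ℤ := ![![0, 2, 0, 0, 0, 0, 0, 0, 0], ![1, 0, 1, 0, 0, 0, 0, 0, 0], ![0, 1, 0, 1, 0, 0, 0, 0, 0], ![0, 0, 1, 0, 1, 0, 0, 0, 0], ![0, 0, 0, 1, 0, 1, 0, 0, 0], ![0, 0, 0, 0, 1, 0, 1, 0, 0], ![0, 0, 0, 0, 0, 1, 0, 1, 0], ![0, 0, 0, 0, 0, 0, 1, 0, 2], ![0, 0, 0, 0, 0, 0, 0, 1, 0]]

/-- Affine type diagram `t9_2`. -/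
def M_t9_2 : Fin 9 → Fin 9 → ℤ := ![![0, 2, 0, 0, 0, 0, 0, 0, 0], ![1, 0, 1, 0, 0, 0, 0, 0, 0], ![0, 1, 0, 1, 0, 0, 0, 0, 0], ![0, 0, 1, 0, 1, 0, 0, 0, 0], ![0, 0, 0, 1, 0, 1, 0, 0, 0], ![0, 0, 0, 0, 1, 0, 1, 0, 0], ![0, 0, 0, 0, 0, 1, 0, 1, 0], ![0, 0, 0, 0, 0, 0, 1, 0, 1], ![0, 0, 0, 0, 0, 0, 0, 2, 0]]

/-- Affine type diagram `t9_3`. -/
def M_t9_3 : Fin 9 → Fin 9 → ℤ := ![![0, 1, 0, 0, 0, 0, 0, 0, 0], ![2, 0, 1, 0, 0, 0, 0, 0, 0], ![0, 1, 0, 1, 0, 0, 0, 0, 0], ![0, 0, 1, 0, 1, 0, 0, 0, 0], ![0, 0, 0, 1, 0, 1, 0, 0, 0], ![0, 0, 0, 0, 1, 0, 1, 0, 0], ![0, 0, 0, 0, 0, 1, 0, 1, 0], ![0, 0, 0, 0, 0, 0, 1, 0, 2], ![0, 0, 0, 0, 0, 0, 0, 1, 0]]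

/-- Affine type diagram `t9_4`. -/
def M_t9_4 : Fin 9 → Fin 9 → ℤ := ![![0, 1, 0, 0, 0, 0, 0, 0, 0], ![2, 0, 1, 0, 0, 0, 0, 0, 0], ![0, 1, 0, 1, 0, 0, 0, 0, 0], ![0, 0, 1, 0, 1, 0, 0, 0, 0], ![0, 0, 0, 1, 0, 1, 0, 0, 0], ![0, 0, 0, 0, 1, 0, 1, 0, 0], ![0, 0, 0, 0, 0, 1, 0, 1, 1], ![0, 0, 0, 0, 0, 0, 1, 0, 0], ![0, 0, 0, 0, 0, 0, 1, 0, 0]]

/-- Affine type diagram `t9_5`. -/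
def M_t9_5 : Fin 9 → Fin 9 → ℤ := ![![0, 2, 0, 0, 0, 0, 0, 0, 0], ![1, 0, 1, 0, 0, 0, 0, 0, 0], ![0, 1, 0, 1, 0, 0, 0, 0, 0], ![0, 0, 1, 0, 1, 0, 0, 0, 0], ![0, 0, 0, 1, 0, 1, 0, 0, 0], ![0, 0, 0, 0, 1, 0, 1, 0, 0], ![0, 0, 0, 0, 0, 1, 0, 1, 1], ![0, 0, 0, 0, 0, 0, 1, 0, 0], ![0, 0, 0, 0, 0, 0, 1, 0, 0]]

/-- Affine type diagram `t9_6`. -/
def M_t9_6 : Fin 9 → Fin 9 → ℤ := ![![0, 0, 1, 0, 0, 0, 0, 0, 0], ![0, 0, 1, 0, 0, 0, 0, 0, 0], ![1, 1, 0, 1, 0, 0, 0, 0, 0], ![0, 0, 1, 0, 1, 0, 0, 0, 0], ![0, 0, 0, 1, 0, 1, 0, 0, 0], ![0, 0, 0, 0, 1, 0, 1, 0, 0], ![0, 0, 0, 0, 0, 1, 0, 1, 1], ![0, 0, 0, 0, 0, 0, 1, 0, 0], ![0, 0, 0, 0, 0, 0, 1, 0, 0]]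

/-- Affine type diagram `t9_7`. -/
def M_t9_7 : Fin 9 → Fin 9 → ℤ := ![![0, 1, 0, 0, 0, 0, 0, 0, 0], ![1, 0, 1, 0, 0, 0, 0, 0, 0], ![0, 1, 0, 1, 0, 0, 0, 0, 0], ![0, 0, 1, 0, 1, 0, 0, 0, 0], ![0, 0, 0, 1, 0, 1, 0, 0, 0], ![0, 0, 0, 0, 1, 0, 1, 0, 1], ![0, 0, 0, 0, 0, 1, 0, 1, 0], ![0, 0, 0, 0, 0, 0, 1, 0, 0], ![0, 0, 0, 0, 0, 1, 0, 0, 0]]

/-- Affine type diagram `aff2_40`. -/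
def M_aff2_40 : Fin 2 → Fin 2 → ℤ := ![![0, 1], ![4, 0]]

/-- Affine type diagram `aff2_41`. -/
def M_aff2_41 : Fin 2 → Fin 2 → ℤ := ![![0, 2], ![2, 0]]

/-- Affine type diagram `aff3_42`. -/
def M_aff3_42 : Fin 3 → Fin 3 → ℤ := ![![0, 1, 0], ![1, 0, 1], ![0, 3, 0]]

/-- Affine type diagram `aff3_43`. -/
def M_aff3_43 : Fin 3 → Fin 3 → ℤ := ![![0, 1, 0], ![1, 0, 3], ![0, 1, 0]]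

/-- Affine type diagram `aff3_44`. -/
def M_aff3_44 : Fin 3 → Fin 3 → ℤ := ![![0, 1, 1], ![1, 0, 1], ![1, 1, 0]]

/-- Affine type diagram `aff3_45`. -/
def M_aff3_45 : Fin 3 → Fin 3 → ℤ := ![![0, 1, 0], ![2, 0, 1], ![0, 2, 0]]

/-- Affine type diagram `aff3_46`. -/
def M_aff3_46 : Fin 3 → Fin 3 → ℤ := ![![0, 1, 0], ![2, 0, 2], ![0, 1, 0]]

/-- Affine type diagram `aff3_47`. -/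
def M_aff3_47 : Fin 3 → Fin 3 → ℤ := ![![0, 1, 1], ![2, 0, 0], ![2, 0, 0]]

/-- Affine type diagram `aff4_48`. -/
def M_aff4_48 : Fin 4 → Fin 4 → ℤ := ![![0, 1, 0, 0], ![1, 0, 1, 1], ![0, 1, 0, 0], ![0, 2, 0, 0]]

/-- Affine type diagram `aff4_49`. -/
def M_aff4_49 : Fin 4 → Fin 4 → ℤ := ![![0, 1, 0, 0], ![1, 0, 1, 2], ![0, 1, 0, 0], ![0, 1, 0, 0]]

/-- Affine type diagram `aff4_50`. -/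
def M_aff4_50 : Fin 4 → Fin 4 → ℤ := ![![0, 1, 0, 1], ![1, 0, 1, 0], ![0, 1, 0, 1], ![1, 0, 1, 0]]

/-- Affine type diagram `aff4_51`. -/
def M_aff4_51 : Fin 4 → Fin 4 → ℤ := ![![0, 1, 0, 1], ![1, 0, 1, 0], ![0, 2, 0, 0], ![2, 0, 0, 0]]

/-- Affine type diagram `aff4_52`. -/
def M_aff4_52 : Fin 4 → Fin 4 → ℤ := ![![0, 1, 0, 2], ![1, 0, 1, 0], ![0, 2, 0, 0], ![1, 0, 0, 0]]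

/-- Affine type diagram `aff4_53`. -/
def M_aff4_53 : Fin 4 → Fin 4 → ℤ := ![![0, 1, 0, 2], ![1, 0, 2, 0], ![0, 1, 0, 0], ![1, 0, 0, 0]]

/-- The affine diagrams with at most nine nodes. -/
inductive AffKnown : (k : ℕ) → (Fin k → Fin k → ℤ) → Prop
  | t5_0 : AffKnown 5 M_t5_0
  | t5_1 : AffKnown 5 M_t5_1
  | t5_2 : AffKnown 5 M_t5_2
  | t5_3 : AffKnown 5 M_t5_3
  | t5_4 : AffKnown 5 M_t5_4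
  | t5_5 : AffKnown 5 M_t5_5
  | t5_6 : AffKnown 5 M_t5_6
  | t5_7 : AffKnown 5 M_t5_7
  | t5_8 : AffKnown 5 M_t5_8
  | t6_0 : AffKnown 6 M_t6_0
  | t6_1 : AffKnown 6 M_t6_1
  | t6_2 : AffKnown 6 M_t6_2
  | t6_3 : AffKnown 6 M_t6_3
  | t6_4 : AffKnown 6 M_t6_4
  | t6_5 : AffKnown 6 M_t6_5
  | t6_6 : AffKnown 6 M_t6_6
  | t7_0 : AffKnown 7 M_t7_0
  | t7_1 : AffKnown 7 M_t7_1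
  | t7_2 : AffKnown 7 M_t7_2
  | t7_3 : AffKnown 7 M_t7_3
  | t7_4 : AffKnown 7 M_t7_4
  | t7_5 : AffKnown 7 M_t7_5
  | t7_6 : AffKnown 7 M_t7_6
  | t7_7 : AffKnown 7 M_t7_7
  | t8_0 : AffKnown 8 M_t8_0
  | t8_1 : AffKnown 8 M_t8_1
  | t8_2 : AffKnown 8 M_t8_2
  | t8_3 : AffKnown 8 M_t8_3
  | t8_4 : AffKnown 8 M_t8_4
  | t8_5 : AffKnown 8 M_t8_5
  | t8_6 : AffKnown 8 M_t8_6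
  | t8_7 : AffKnown 8 M_t8_7
  | t9_0 : AffKnown 9 M_t9_0
  | t9_1 : AffKnown 9 M_t9_1
  | t9_2 : AffKnown 9 M_t9_2
  | t9_3 : AffKnown 9 M_t9_3
  | t9_4 : AffKnown 9 M_t9_4
  | t9_5 : AffKnown 9 M_t9_5
  | t9_6 : AffKnown 9 M_t9_6
  | t9_7 : AffKnown 9 M_t9_7
  | aff2_40 : AffKnown 2 M_aff2_40
  | aff2_41 : AffKnown 2 M_aff2_41
  | aff3_42 : AffKnown 3 M_aff3_42
  | aff3_43 : AffKnown 3 M_aff3_43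
  | aff3_44 : AffKnown 3 M_aff3_44
  | aff3_45 : AffKnown 3 M_aff3_45
  | aff3_46 : AffKnown 3 M_aff3_46
  | aff3_47 : AffKnown 3 M_aff3_47
  | aff4_48 : AffKnown 4 M_aff4_48
  | aff4_49 : AffKnown 4 M_aff4_49
  | aff4_50 : AffKnown 4 M_aff4_50
  | aff4_51 : AffKnown 4 M_aff4_51
  | aff4_52 : AffKnown 4 M_aff4_52
  | aff4_53 : AffKnown 4 M_aff4_53

end Groth.Agent.Lib.Helper36.Grow
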