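import Groth.Agent.Lib.Helper36.Grow.St1
import Groth.Agent.Lib.Helper36.Grow.St2
import Groth.Agent.Lib.Helper36.Grow.St3

/-! Growth step for the finite type diagram `D0` (generated, helper36). -/

set_option autoImplicit false
set_option linter.unusedVariables false
set_option linter.unnecessarySeqFocus false
open Finset
open Models Models.NumericalType
open Groth.Agent.Lib.Helper36

namespace Groth.Agent.Lib.Helper36.Grow

variable {n : ℕ} {T : Models.NumericalType n} {b : Fin n → Fin n → ℤ}

theorem st0 (C : NT.AffCtx T b) (hn : n ≤ 9) {e : Fin 1 → Fin n} (E : NT.Emb b D0 e) :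
    NT.IsAffOf AffKnown b := by
  rcases Nat.lt_or_ge 1 n with hlt | hge
  · obtain ⟨v, hv, hex⟩ := C.grow E.inj (by norm_num) hlt
    have Lp0 : 0 ≤ b (e 0) v := C.nonneg (hv 0)
    have Lq0 : 0 ≤ b v (e 0) := C.nonneg (hv 0).symm
    rcases le_or_gt (b (e 0) v) 0 with hc | hc
    · have Up0 : b (e 0) v ≤ 0 := hc
      have Uq0 : b v (e 0) ≤ 0 := C.le_zero_symm (hv 0) hc
      have hall : ∀ i, b (e i) v ≤ 0 := fun i => by fin_cases i <;> assumption
      obtain ⟨i, hi⟩ := hex
      exact absurd (le_trans hi (hall i)) (by norm_num)
    · have Lp0 : 1 ≤ b (e 0) v := hc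
      have Lq0 : 1 ≤ b v (e 0) := C.pos_symm (hv 0) (by omega)
      rcases le_or_gt (b (e 0) v) 1 with hc | hc
      · have Up0 : b (e 0) v ≤ 1 := hc
        rcases le_or_gt (b v (e 0)) 1 with hc | hc
        · have Uq0 : b v (e 0) ≤ 1 := hc
          have ep0 : b (e 0) v = 1 := le_antisymm Up0 Lp0
          have eq0 : b v (e 0) = 1 := le_antisymm Uq0 Lq0
          exact st1 C hn ((E.snoc hv (p := ![1]) (q := ![1]) (fun i => by fin_cases i <;> assumption) (fun i => by fin_cases i <;> assumption)).perm ![0, 1] (by decide) D1 (by decide))
        · have Lq0 : 2 ≤ b v (e 0) := hc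
          rcases le_or_gt (b v (e 0)) 2 with hc | hc
          · have Uq0 : b v (e 0) ≤ 2 := hc
            have ep0 : b (e 0) v = 1 := le_antisymm Up0 Lp0
            have eq0 : b v (e 0) = 2 := le_antisymm Uq0 Lq0
            exact st2 C hn ((E.snoc hv (p := ![1]) (q := ![2]) (fun i => by fin_cases i <;> assumption) (fun i => by fin_cases i <;> assumption)).perm ![0, 1] (by decide) D2 (by decide))
          · have Lq0 : 3 ≤ b v (e 0) := hc
            rcases le_or_gt (b v (e 0)) 3 with hc | hc
            · have Uq0 : b v (e 0) ≤ 3 := hc
              have ep0 : b (e 0) v = 1 := le_antisymm Up0 Lp0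
              have eq0 : b v (e 0) = 3 := le_antisymm Uq0 Lq0
              exact st3 C hn ((E.snoc hv (p := ![1]) (q := ![3]) (fun i => by fin_cases i <;> assumption) (fun i => by fin_cases i <;> assumption)).perm ![0, 1] (by decide) D3 (by decide))
            · have Lq0 : 4 ≤ b v (e 0) := hc
              rcases le_or_gt (b v (e 0)) 4 with hc | hc
              · have Uq0 : b v (e 0) ≤ 4 := hc
                have ep0 : b (e 0) v = 1 := le_antisymm Up0 Lp0
                have eq0 : b v (e 0) = 4 := le_antisymm Uq0 Lq0
                exact NT.IsAffOf.of_emb C AffKnown.aff2_40 ((E.snoc hv (p := ![1]) (q := ![4]) (fun i => by fin_cases i <;> assumption) (fun i => by fin_cases i <;> assumption)).perm ![0, 1] (by decide) M_aff2_40 (by decide)) (by norm_num)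
                  ![1, 2] (by decide) (by decide)
              · have Lq0 : 5 ≤ b v (e 0) := hc
                exact (C.cert (E.snocLE hv (p := ![1]) (q := ![5]) (fun i => by fin_cases i <;> assumption) (fun i => by fin_cases i <;> assumption))
                  ![1, 2] (by decide) (by decide) (by decide) (by decide)).elim
      · have Lp0 : 2 ≤ b (e 0) v := hc
        rcases le_or_gt (b (e 0) v) 2 with hc | hc
        · have Up0 : b (e 0) v ≤ 2 := hc
          rcases le_or_gt (b v (e 0)) 1 with hc | hc
          · have Uq0 : b v (e 0) ≤ 1 := hc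
            have ep0 : b (e 0) v = 2 := le_antisymm Up0 Lp0
            have eq0 : b v (e 0) = 1 := le_antisymm Uq0 Lq0
            exact st2 C hn ((E.snoc hv (p := ![2]) (q := ![1]) (fun i => by fin_cases i <;> assumption) (fun i => by fin_cases i <;> assumption)).perm ![1, 0] (by decide) D2 (by decide))
          · have Lq0 : 2 ≤ b v (e 0) := hc
            rcases le_or_gt (b v (e 0)) 2 with hc | hc
            · have Uq0 : b v (e 0) ≤ 2 := hc
              have ep0 : b (e 0) v = 2 := le_antisymm Up0 Lp0
              have eq0 : b v (e 0) = 2 := le_antisymm Uq0 Lq0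
              exact NT.IsAffOf.of_emb C AffKnown.aff2_41 ((E.snoc hv (p := ![2]) (q := ![2]) (fun i => by fin_cases i <;> assumption) (fun i => by fin_cases i <;> assumption)).perm ![0, 1] (by decide) M_aff2_41 (by decide)) (by norm_num)
                ![1, 1] (by decide) (by decide)
            · have Lq0 : 3 ≤ b v (e 0) := hc
              exact (C.cert (E.snocLE hv (p := ![2]) (q := ![3]) (fun i => by fin_cases i <;> assumption) (fun i => by fin_cases i <;> assumption))
                ![1, 1] (by decide) (by decide) (by decide) (by decide)).elim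
        · have Lp0 : 3 ≤ b (e 0) v := hc
          rcases le_or_gt (b (e 0) v) 3 with hc | hc
          · have Up0 : b (e 0) v ≤ 3 := hc
            rcases le_or_gt (b v (e 0)) 1 with hc | hc
            · have Uq0 : b v (e 0) ≤ 1 := hc
              have ep0 : b (e 0) v = 3 := le_antisymm Up0 Lp0
              have eq0 : b v (e 0) = 1 := le_antisymm Uq0 Lq0
              exact st3 C hn ((E.snoc hv (p := ![3]) (q := ![1]) (fun i => by fin_cases i <;> assumption) (fun i => by fin_cases i <;> assumption)).perm ![1, 0] (by decide) D3 (by decide))
            · have Lq0 : 2 ≤ b v (e 0) := hc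
              exact (C.cert (E.snocLE hv (p := ![3]) (q := ![2]) (fun i => by fin_cases i <;> assumption) (fun i => by fin_cases i <;> assumption))
                ![1, 1] (by decide) (by decide) (by decide) (by decide)).elim
          · have Lp0 : 4 ≤ b (e 0) v := hc
            rcases le_or_gt (b (e 0) v) 4 with hc | hc
            · have Up0 : b (e 0) v ≤ 4 := hc
              rcases le_or_gt (b v (e 0)) 1 with hc | hc
              · have Uq0 : b v (e 0) ≤ 1 := hc
                have ep0 : b (e 0) v = 4 := le_antisymm Up0 Lp0
                have eq0 : b v (e 0) = 1 := le_antisymm Uq0 Lq0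
                exact NT.IsAffOf.of_emb C AffKnown.aff2_40 ((E.snoc hv (p := ![4]) (q := ![1]) (fun i => by fin_cases i <;> assumption) (fun i => by fin_cases i <;> assumption)).perm ![1, 0] (by decide) M_aff2_40 (by decide)) (by norm_num)
                  ![1, 2] (by decide) (by decide)
              · have Lq0 : 2 ≤ b v (e 0) := hc
                exact (C.cert (E.snocLE hv (p := ![4]) (q := ![2]) (fun i => by fin_cases i <;> assumption) (fun i => by fin_cases i <;> assumption))
                  ![1, 1] (by decide) (by decide) (by decide) (by decide)).elim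
            · have Lp0 : 5 ≤ b (e 0) v := hc
              exact (C.cert (E.snocLE hv (p := ![5]) (q := ![1]) (fun i => by fin_cases i <;> assumption) (fun i => by fin_cases i <;> assumption))
                ![2, 1] (by decide) (by decide) (by decide) (by decide)).elim
  · exact (C.fin_cert E hge ![1] (by decide) (by decide) (by decide)).elim

end Groth.Agent.Lib.Helper36.Grow
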