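import Groth.Agent.Lib.Helper36.Grow.St8
import Groth.Agent.Lib.Helper36.Grow.St11

/-! Growth step for the finite type diagram `D5` (generated, helper36). -/

set_option autoImplicit false
set_option linter.unusedVariables false
set_option linter.unnecessarySeqFocus false
open Finset
open Models Models.NumericalType
open Groth.Agent.Lib.Helper36

namespace Groth.Agent.Lib.Helper36.Grow

variable {n : ℕ} {T : Models.NumericalType n} {b : Fin n → Fin n → ℤ}

theorem st5 (C : NT.AffCtx T b) (hn : n ≤ 9) {e : Fin 3 → Fin n} (E : NT.Emb b D5 e) :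
    NT.IsAffOf AffKnown b := by
  rcases Nat.lt_or_ge 3 n with hlt | hge
  · obtain ⟨v, hv, hex⟩ := C.grow E.inj (by norm_num) hlt
    have Lp0 : 0 ≤ b (e 0) v := C.nonneg (hv 0)
    have Lq0 : 0 ≤ b v (e 0) := C.nonneg (hv 0).symm
    have Lp1 : 0 ≤ b (e 1) v := C.nonneg (hv 1)
    have Lq1 : 0 ≤ b v (e 1) := C.nonneg (hv 1).symm
    have Lp2 : 0 ≤ b (e 2) v := C.nonneg (hv 2)
    have Lq2 : 0 ≤ b v (e 2) := C.nonneg (hv 2).symm
    rcases le_or_gt (b (e 0) v) 0 with hc | hc
    · have Up0 : b (e 0) v ≤ 0 := hc
      have Uq0 : b v (e 0) ≤ 0 := C.le_zero_symm (hv 0) hc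
      rcases le_or_gt (b (e 1) v) 0 with hc | hc
      · have Up1 : b (e 1) v ≤ 0 := hc
        have Uq1 : b v (e 1) ≤ 0 := C.le_zero_symm (hv 1) hc
        rcases le_or_gt (b (e 2) v) 0 with hc | hc
        · have Up2 : b (e 2) v ≤ 0 := hc
          have Uq2 : b v (e 2) ≤ 0 := C.le_zero_symm (hv 2) hc
          have hall : ∀ i, b (e i) v ≤ 0 := fun i => by fin_cases i <;> assumption
          obtain ⟨i, hi⟩ := hex
          exact absurd (le_trans hi (hall i)) (by norm_num)
        · have Lp2 : 1 ≤ b (e 2) v := hc
          have Lq2 : 1 ≤ b v (e 2) := C.pos_symm (hv 2) (by omega)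
          rcases le_or_gt (b (e 2) v) 1 with hc | hc
          · have Up2 : b (e 2) v ≤ 1 := hc
            rcases le_or_gt (b v (e 2)) 1 with hc | hc
            · have Uq2 : b v (e 2) ≤ 1 := hc
              have ep0 : b (e 0) v = 0 := le_antisymm Up0 Lp0
              have eq0 : b v (e 0) = 0 := le_antisymm Uq0 Lq0
              have ep1 : b (e 1) v = 0 := le_antisymm Up1 Lp1
              have eq1 : b v (e 1) = 0 := le_antisymm Uq1 Lq1
              have ep2 : b (e 2) v = 1 := le_antisymm Up2 Lp2
              have eq2 : b v (e 2) = 1 := le_antisymm Uq2 Lq2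
              exact st11 C hn ((E.snoc hv (p := ![0, 0, 1]) (q := ![0, 0, 1]) (fun i => by fin_cases i <;> assumption) (fun i => by fin_cases i <;> assumption)).perm ![0, 1, 2, 3] (by decide) D11 (by decide))
            · have Lq2 : 2 ≤ b v (e 2) := hc
              exact (C.cert (E.snocLE hv (p := ![0, 0, 1]) (q := ![0, 0, 2]) (fun i => by fin_cases i <;> assumption) (fun i => by fin_cases i <;> assumption))
                ![2, 4, 7, 7] (by decide) (by decide) (by decide) (by decide)).elim
          · have Lp2 : 2 ≤ b (e 2) v := hc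
            exact (C.cert (E.snocLE hv (p := ![0, 0, 2]) (q := ![0, 0, 1]) (fun i => by fin_cases i <;> assumption) (fun i => by fin_cases i <;> assumption))
              ![1, 2, 4, 2] (by decide) (by decide) (by decide) (by decide)).elim
      · have Lp1 : 1 ≤ b (e 1) v := hc
        have Lq1 : 1 ≤ b v (e 1) := C.pos_symm (hv 1) (by omega)
        rcases le_or_gt (b (e 2) v) 0 with hc | hc
        · have Up2 : b (e 2) v ≤ 0 := hc
          have Uq2 : b v (e 2) ≤ 0 := C.le_zero_symm (hv 2) hc
          rcases le_or_gt (b (e 1) v) 1 with hc | hc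
          · have Up1 : b (e 1) v ≤ 1 := hc
            rcases le_or_gt (b v (e 1)) 1 with hc | hc
            · have Uq1 : b v (e 1) ≤ 1 := hc
              have ep0 : b (e 0) v = 0 := le_antisymm Up0 Lp0
              have eq0 : b v (e 0) = 0 := le_antisymm Uq0 Lq0
              have ep1 : b (e 1) v = 1 := le_antisymm Up1 Lp1
              have eq1 : b v (e 1) = 1 := le_antisymm Uq1 Lq1
              have ep2 : b (e 2) v = 0 := le_antisymm Up2 Lp2
              have eq2 : b v (e 2) = 0 := le_antisymm Uq2 Lq2
              exact NT.IsAffOf.of_emb C AffKnown.aff4_48 ((E.snoc hv (p := ![0, 1, 0]) (q := ![0, 1, 0]) (fun i => by fin_cases i <;> assumption) (fun i => by fin_cases i <;> assumption)).perm ![0, 1, 3, 2] (by decide) M_aff4_48 (by decide)) (by norm_num)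
                ![1, 2, 1, 2] (by decide) (by decide)
            · have Lq1 : 2 ≤ b v (e 1) := hc
              exact (C.cert (E.snocLE hv (p := ![0, 1, 0]) (q := ![0, 2, 0]) (fun i => by fin_cases i <;> assumption) (fun i => by fin_cases i <;> assumption))
                ![1, 2, 2, 2] (by decide) (by decide) (by decide) (by decide)).elim
          · have Lp1 : 2 ≤ b (e 1) v := hc
            exact (C.cert (E.snocLE hv (p := ![0, 2, 0]) (q := ![0, 1, 0]) (fun i => by fin_cases i <;> assumption) (fun i => by fin_cases i <;> assumption))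
              ![1, 2, 2, 1] (by decide) (by decide) (by decide) (by decide)).elim
        · have Lp2 : 1 ≤ b (e 2) v := hc
          have Lq2 : 1 ≤ b v (e 2) := C.pos_symm (hv 2) (by omega)
          exact (C.cert (E.snocLE hv (p := ![0, 1, 1]) (q := ![0, 1, 1]) (fun i => by fin_cases i <;> assumption) (fun i => by fin_cases i <;> assumption))
            ![1, 2, 3, 2] (by decide) (by decide) (by decide) (by decide)).elim
    · have Lp0 : 1 ≤ b (e 0) v := hc
      have Lq0 : 1 ≤ b v (e 0) := C.pos_symm (hv 0) (by omega)
      rcases le_or_gt (b (e 1) v) 0 with hc | hc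
      · have Up1 : b (e 1) v ≤ 0 := hc
        have Uq1 : b v (e 1) ≤ 0 := C.le_zero_symm (hv 1) hc
        rcases le_or_gt (b (e 2) v) 0 with hc | hc
        · have Up2 : b (e 2) v ≤ 0 := hc
          have Uq2 : b v (e 2) ≤ 0 := C.le_zero_symm (hv 2) hc
          rcases le_or_gt (b (e 0) v) 1 with hc | hc
          · have Up0 : b (e 0) v ≤ 1 := hc
            rcases le_or_gt (b v (e 0)) 1 with hc | hc
            · have Uq0 : b v (e 0) ≤ 1 := hc
              have ep0 : b (e 0) v = 1 := le_antisymm Up0 Lp0
              have eq0 : b v (e 0) = 1 := le_antisymm Uq0 Lq0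
              have ep1 : b (e 1) v = 0 := le_antisymm Up1 Lp1
              have eq1 : b v (e 1) = 0 := le_antisymm Uq1 Lq1
              have ep2 : b (e 2) v = 0 := le_antisymm Up2 Lp2
              have eq2 : b v (e 2) = 0 := le_antisymm Uq2 Lq2
              exact st8 C hn ((E.snoc hv (p := ![1, 0, 0]) (q := ![1, 0, 0]) (fun i => by fin_cases i <;> assumption) (fun i => by fin_cases i <;> assumption)).perm ![3, 0, 1, 2] (by decide) D8 (by decide))
            · have Lq0 : 2 ≤ b v (e 0) := hc
              rcases le_or_gt (b v (e 0)) 2 with hc | hc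
              · have Uq0 : b v (e 0) ≤ 2 := hc
                have ep0 : b (e 0) v = 1 := le_antisymm Up0 Lp0
                have eq0 : b v (e 0) = 2 := le_antisymm Uq0 Lq0
                have ep1 : b (e 1) v = 0 := le_antisymm Up1 Lp1
                have eq1 : b v (e 1) = 0 := le_antisymm Uq1 Lq1
                have ep2 : b (e 2) v = 0 := le_antisymm Up2 Lp2
                have eq2 : b v (e 2) = 0 := le_antisymm Uq2 Lq2
                exact NT.IsAffOf.of_emb C AffKnown.aff4_51 ((E.snoc hv (p := ![1, 0, 0]) (q := ![2, 0, 0]) (fun i => by fin_cases i <;> assumption) (fun i => by fin_cases i <;> assumption)).perm ![0, 1, 2, 3] (by decide) M_aff4_51 (by decide)) (by norm_num)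
                  ![1, 1, 1, 1] (by decide) (by decide)
              · have Lq0 : 3 ≤ b v (e 0) := hc
                exact (C.cert (E.snocLE hv (p := ![1, 0, 0]) (q := ![3, 0, 0]) (fun i => by fin_cases i <;> assumption) (fun i => by fin_cases i <;> assumption))
                  ![3, 2, 2, 4] (by decide) (by decide) (by decide) (by decide)).elim
          · have Lp0 : 2 ≤ b (e 0) v := hc
            rcases le_or_gt (b (e 0) v) 2 with hc | hc
            · have Up0 : b (e 0) v ≤ 2 := hc
              rcases le_or_gt (b v (e 0)) 1 with hc | hc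
              · have Uq0 : b v (e 0) ≤ 1 := hc
                have ep0 : b (e 0) v = 2 := le_antisymm Up0 Lp0
                have eq0 : b v (e 0) = 1 := le_antisymm Uq0 Lq0
                have ep1 : b (e 1) v = 0 := le_antisymm Up1 Lp1
                have eq1 : b v (e 1) = 0 := le_antisymm Uq1 Lq1
                have ep2 : b (e 2) v = 0 := le_antisymm Up2 Lp2
                have eq2 : b v (e 2) = 0 := le_antisymm Uq2 Lq2
                exact NT.IsAffOf.of_emb C AffKnown.aff4_52 ((E.snoc hv (p := ![2, 0, 0]) (q := ![1, 0, 0]) (fun i => by fin_cases i <;> assumption) (fun i => by fin_cases i <;> assumption)).perm ![0, 1, 2, 3] (by decide) M_aff4_52 (by decide)) (by norm_num)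
                  ![2, 2, 2, 1] (by decide) (by decide)
              · have Lq0 : 2 ≤ b v (e 0) := hc
                exact (C.cert (E.snocLE hv (p := ![2, 0, 0]) (q := ![2, 0, 0]) (fun i => by fin_cases i <;> assumption) (fun i => by fin_cases i <;> assumption))
                  ![2, 1, 1, 2] (by decide) (by decide) (by decide) (by decide)).elim
            · have Lp0 : 3 ≤ b (e 0) v := hc
              exact (C.cert (E.snocLE hv (p := ![3, 0, 0]) (q := ![1, 0, 0]) (fun i => by fin_cases i <;> assumption) (fun i => by fin_cases i <;> assumption))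
                ![2, 2, 2, 1] (by decide) (by decide) (by decide) (by decide)).elim
        · have Lp2 : 1 ≤ b (e 2) v := hc
          have Lq2 : 1 ≤ b v (e 2) := C.pos_symm (hv 2) (by omega)
          exact (C.cert (E.snocLE hv (p := ![1, 0, 1]) (q := ![1, 0, 1]) (fun i => by fin_cases i <;> assumption) (fun i => by fin_cases i <;> assumption))
            ![2, 2, 3, 2] (by decide) (by decide) (by decide) (by decide)).elim
      · have Lp1 : 1 ≤ b (e 1) v := hc
        have Lq1 : 1 ≤ b v (e 1) := C.pos_symm (hv 1) (by omega)
        exact (C.cert (E.snocLE hv (p := ![1, 1, 0]) (q := ![1, 1, 0]) (fun i => by fin_cases i <;> assumption) (fun i => by fin_cases i <;> assumption))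
          ![1, 1, 1, 1] (by decide) (by decide) (by decide) (by decide)).elim
  · exact (C.fin_cert E hge ![1, 2, 2] (by decide) (by decide) (by decide)).elim

end Groth.Agent.Lib.Helper36.Grow
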