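import Groth.Agent.Lib.Helper36.Grow.St29
import Groth.Agent.Lib.Helper36.Grow.St30

/-! Growth step for the finite type diagram `D24` (generated, helper36). -/

set_option autoImplicit false
set_option linter.unusedVariables false
set_option linter.unnecessarySeqFocus false
open Finset
open Models Models.NumericalType
open Groth.Agent.Lib.Helper36

namespace Groth.Agent.Lib.Helper36.Grow

variable {n : ℕ} {T : Models.NumericalType n} {b : Fin n → Fin n → ℤ}

theorem st24 (C : NT.AffCtx T b) (hn : n ≤ 9) {e : Fin 7 → Fin n} (E : NT.Emb b D24 e) :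
    NT.IsAffOf AffKnown b := by
  rcases Nat.lt_or_ge 7 n with hlt | hge
  · obtain ⟨v, hv, hex⟩ := C.grow E.inj (by norm_num) hlt
    have Lp0 : 0 ≤ b (e 0) v := C.nonneg (hv 0)
    have Lq0 : 0 ≤ b v (e 0) := C.nonneg (hv 0).symm
    have Lp1 : 0 ≤ b (e 1) v := C.nonneg (hv 1)
    have Lq1 : 0 ≤ b v (e 1) := C.nonneg (hv 1).symm
    have Lp2 : 0 ≤ b (e 2) v := C.nonneg (hv 2)
    have Lq2 : 0 ≤ b v (e 2) := C.nonneg (hv 2).symm
    have Lp3 : 0 ≤ b (e 3) v := C.nonneg (hv 3)
    have Lq3 : 0 ≤ b v (e 3) := C.nonneg (hv 3).symm
    have Lp4 : 0 ≤ b (e 4) v := C.nonneg (hv 4)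
    have Lq4 : 0 ≤ b v (e 4) := C.nonneg (hv 4).symm
    have Lp5 : 0 ≤ b (e 5) v := C.nonneg (hv 5)
    have Lq5 : 0 ≤ b v (e 5) := C.nonneg (hv 5).symm
    have Lp6 : 0 ≤ b (e 6) v := C.nonneg (hv 6)
    have Lq6 : 0 ≤ b v (e 6) := C.nonneg (hv 6).symm
    rcases le_or_gt (b (e 0) v) 0 with hc | hc
    · have Up0 : b (e 0) v ≤ 0 := hc
      have Uq0 : b v (e 0) ≤ 0 := C.le_zero_symm (hv 0) hc
      rcases le_or_gt (b (e 1) v) 0 with hc | hc
      · have Up1 : b (e 1) v ≤ 0 := hc
        have Uq1 : b v (e 1) ≤ 0 := C.le_zero_symm (hv 1) hc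
        rcases le_or_gt (b (e 2) v) 0 with hc | hc
        · have Up2 : b (e 2) v ≤ 0 := hc
          have Uq2 : b v (e 2) ≤ 0 := C.le_zero_symm (hv 2) hc
          rcases le_or_gt (b (e 3) v) 0 with hc | hc
          · have Up3 : b (e 3) v ≤ 0 := hc
            have Uq3 : b v (e 3) ≤ 0 := C.le_zero_symm (hv 3) hc
            rcases le_or_gt (b (e 4) v) 0 with hc | hc
            · have Up4 : b (e 4) v ≤ 0 := hc
              have Uq4 : b v (e 4) ≤ 0 := C.le_zero_symm (hv 4) hc
              rcases le_or_gt (b (e 5) v) 0 with hc | hc
              · have Up5 : b (e 5) v ≤ 0 := hc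
                have Uq5 : b v (e 5) ≤ 0 := C.le_zero_symm (hv 5) hc
                rcases le_or_gt (b (e 6) v) 0 with hc | hc
                · have Up6 : b (e 6) v ≤ 0 := hc
                  have Uq6 : b v (e 6) ≤ 0 := C.le_zero_symm (hv 6) hc
                  have hall : ∀ i, b (e i) v ≤ 0 := fun i => by fin_cases i <;> assumption
                  obtain ⟨i, hi⟩ := hex
                  exact absurd (le_trans hi (hall i)) (by norm_num)
                · have Lp6 : 1 ≤ b (e 6) v := hc
                  have Lq6 : 1 ≤ b v (e 6) := C.pos_symm (hv 6) (by omega)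
                  rcases le_or_gt (b (e 6) v) 1 with hc | hc
                  · have Up6 : b (e 6) v ≤ 1 := hc
                    rcases le_or_gt (b v (e 6)) 1 with hc | hc
                    · have Uq6 : b v (e 6) ≤ 1 := hc
                      have ep0 : b (e 0) v = 0 := le_antisymm Up0 Lp0
                      have eq0 : b v (e 0) = 0 := le_antisymm Uq0 Lq0
                      have ep1 : b (e 1) v = 0 := le_antisymm Up1 Lp1
                      have eq1 : b v (e 1) = 0 := le_antisymm Uq1 Lq1
                      have ep2 : b (e 2) v = 0 := le_antisymm Up2 Lp2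
                      have eq2 : b v (e 2) = 0 := le_antisymm Uq2 Lq2
                      have ep3 : b (e 3) v = 0 := le_antisymm Up3 Lp3
                      have eq3 : b v (e 3) = 0 := le_antisymm Uq3 Lq3
                      have ep4 : b (e 4) v = 0 := le_antisymm Up4 Lp4
                      have eq4 : b v (e 4) = 0 := le_antisymm Uq4 Lq4
                      have ep5 : b (e 5) v = 0 := le_antisymm Up5 Lp5
                      have eq5 : b v (e 5) = 0 := le_antisymm Uq5 Lq5
                      have ep6 : b (e 6) v = 1 := le_antisymm Up6 Lp6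
                      have eq6 : b v (e 6) = 1 := le_antisymm Uq6 Lq6
                      exact st30 C hn ((E.snoc hv (p := ![0, 0, 0, 0, 0, 0, 1]) (q := ![0, 0, 0, 0, 0, 0, 1]) (fun i => by fin_cases i <;> assumption) (fun i => by fin_cases i <;> assumption)).perm ![0, 1, 2, 3, 4, 6, 7, 5] (by decide) D30 (by decide))
                    · have Lq6 : 2 ≤ b v (e 6) := hc
                      exact (C.cert (E.snocLE hv (p := ![0, 0, 0, 0, 0, 0, 1]) (q := ![0, 0, 0, 0, 0, 0, 2]) (fun i => by fin_cases i <;> assumption) (fun i => by fin_cases i <;> assumption))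
                        ![1, 2, 3, 5, 7, 3, 6, 6] (by decide) (by decide) (by decide) (by decide)).elim
                  · have Lp6 : 2 ≤ b (e 6) v := hc
                    exact (C.cert (E.snocLE hv (p := ![0, 0, 0, 0, 0, 0, 2]) (q := ![0, 0, 0, 0, 0, 0, 1]) (fun i => by fin_cases i <;> assumption) (fun i => by fin_cases i <;> assumption))
                      ![1, 2, 3, 5, 7, 3, 6, 3] (by decide) (by decide) (by decide) (by decide)).elim
              · have Lp5 : 1 ≤ b (e 5) v := hc
                have Lq5 : 1 ≤ b v (e 5) := C.pos_symm (hv 5) (by omega)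
                rcases le_or_gt (b (e 6) v) 0 with hc | hc
                · have Up6 : b (e 6) v ≤ 0 := hc
                  have Uq6 : b v (e 6) ≤ 0 := C.le_zero_symm (hv 6) hc
                  rcases le_or_gt (b (e 5) v) 1 with hc | hc
                  · have Up5 : b (e 5) v ≤ 1 := hc
                    rcases le_or_gt (b v (e 5)) 1 with hc | hc
                    · have Uq5 : b v (e 5) ≤ 1 := hc
                      have ep0 : b (e 0) v = 0 := le_antisymm Up0 Lp0
                      have eq0 : b v (e 0) = 0 := le_antisymm Uq0 Lq0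
                      have ep1 : b (e 1) v = 0 := le_antisymm Up1 Lp1
                      have eq1 : b v (e 1) = 0 := le_antisymm Uq1 Lq1
                      have ep2 : b (e 2) v = 0 := le_antisymm Up2 Lp2
                      have eq2 : b v (e 2) = 0 := le_antisymm Uq2 Lq2
                      have ep3 : b (e 3) v = 0 := le_antisymm Up3 Lp3
                      have eq3 : b v (e 3) = 0 := le_antisymm Uq3 Lq3
                      have ep4 : b (e 4) v = 0 := le_antisymm Up4 Lp4
                      have eq4 : b v (e 4) = 0 := le_antisymm Uq4 Lq4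
                      have ep5 : b (e 5) v = 1 := le_antisymm Up5 Lp5
                      have eq5 : b v (e 5) = 1 := le_antisymm Uq5 Lq5
                      have ep6 : b (e 6) v = 0 := le_antisymm Up6 Lp6
                      have eq6 : b v (e 6) = 0 := le_antisymm Uq6 Lq6
                      exact st30 C hn ((E.snoc hv (p := ![0, 0, 0, 0, 0, 1, 0]) (q := ![0, 0, 0, 0, 0, 1, 0]) (fun i => by fin_cases i <;> assumption) (fun i => by fin_cases i <;> assumption)).perm ![0, 1, 2, 3, 4, 5, 7, 6] (by decide) D30 (by decide))
                    · have Lq5 : 2 ≤ b v (e 5) := hc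
                      exact (C.cert (E.snocLE hv (p := ![0, 0, 0, 0, 0, 1, 0]) (q := ![0, 0, 0, 0, 0, 2, 0]) (fun i => by fin_cases i <;> assumption) (fun i => by fin_cases i <;> assumption))
                        ![1, 2, 3, 5, 7, 6, 3, 6] (by decide) (by decide) (by decide) (by decide)).elim
                  · have Lp5 : 2 ≤ b (e 5) v := hc
                    exact (C.cert (E.snocLE hv (p := ![0, 0, 0, 0, 0, 2, 0]) (q := ![0, 0, 0, 0, 0, 1, 0]) (fun i => by fin_cases i <;> assumption) (fun i => by fin_cases i <;> assumption))
                      ![1, 2, 3, 5, 7, 6, 3, 3] (by decide) (by decide) (by decide) (by decide)).elim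
                · have Lp6 : 1 ≤ b (e 6) v := hc
                  have Lq6 : 1 ≤ b v (e 6) := C.pos_symm (hv 6) (by omega)
                  exact (C.cert (E.snocLE hv (p := ![0, 0, 0, 0, 0, 1, 1]) (q := ![0, 0, 0, 0, 0, 1, 1]) (fun i => by fin_cases i <;> assumption) (fun i => by fin_cases i <;> assumption))
                    ![1, 2, 4, 6, 10, 8, 8, 7] (by decide) (by decide) (by decide) (by decide)).elim
            · have Lp4 : 1 ≤ b (e 4) v := hc
              have Lq4 : 1 ≤ b v (e 4) := C.pos_symm (hv 4) (by omega)
              exact (C.cert (E.snocLE hv (p := ![0, 0, 0, 0, 1, 0, 0]) (q := ![0, 0, 0, 0, 1, 0, 0]) (fun i => by fin_cases i <;> assumption) (fun i => by fin_cases i <;> assumption))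
                ![1, 2, 3, 5, 8, 4, 4, 4] (by decide) (by decide) (by decide) (by decide)).elim
          · have Lp3 : 1 ≤ b (e 3) v := hc
            have Lq3 : 1 ≤ b v (e 3) := C.pos_symm (hv 3) (by omega)
            exact (C.cert (E.snocLE hv (p := ![0, 0, 0, 1, 0, 0, 0]) (q := ![0, 0, 0, 1, 0, 0, 0]) (fun i => by fin_cases i <;> assumption) (fun i => by fin_cases i <;> assumption))
              ![2, 4, 7, 10, 9, 4, 4, 5] (by decide) (by decide) (by decide) (by decide)).elim
        · have Lp2 : 1 ≤ b (e 2) v := hc
          have Lq2 : 1 ≤ b v (e 2) := C.pos_symm (hv 2) (by omega)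
          exact (C.cert (E.snocLE hv (p := ![0, 0, 1, 0, 0, 0, 0]) (q := ![0, 0, 1, 0, 0, 0, 0]) (fun i => by fin_cases i <;> assumption) (fun i => by fin_cases i <;> assumption))
            ![3, 6, 10, 9, 8, 4, 4, 5] (by decide) (by decide) (by decide) (by decide)).elim
      · have Lp1 : 1 ≤ b (e 1) v := hc
        have Lq1 : 1 ≤ b v (e 1) := C.pos_symm (hv 1) (by omega)
        rcases le_or_gt (b (e 2) v) 0 with hc | hc
        · have Up2 : b (e 2) v ≤ 0 := hc
          have Uq2 : b v (e 2) ≤ 0 := C.le_zero_symm (hv 2) hc
          rcases le_or_gt (b (e 3) v) 0 with hc | hc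
          · have Up3 : b (e 3) v ≤ 0 := hc
            have Uq3 : b v (e 3) ≤ 0 := C.le_zero_symm (hv 3) hc
            rcases le_or_gt (b (e 4) v) 0 with hc | hc
            · have Up4 : b (e 4) v ≤ 0 := hc
              have Uq4 : b v (e 4) ≤ 0 := C.le_zero_symm (hv 4) hc
              rcases le_or_gt (b (e 5) v) 0 with hc | hc
              · have Up5 : b (e 5) v ≤ 0 := hc
                have Uq5 : b v (e 5) ≤ 0 := C.le_zero_symm (hv 5) hc
                rcases le_or_gt (b (e 6) v) 0 with hc | hc
                · have Up6 : b (e 6) v ≤ 0 := hc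
                  have Uq6 : b v (e 6) ≤ 0 := C.le_zero_symm (hv 6) hc
                  rcases le_or_gt (b (e 1) v) 1 with hc | hc
                  · have Up1 : b (e 1) v ≤ 1 := hc
                    rcases le_or_gt (b v (e 1)) 1 with hc | hc
                    · have Uq1 : b v (e 1) ≤ 1 := hc
                      have ep0 : b (e 0) v = 0 := le_antisymm Up0 Lp0
                      have eq0 : b v (e 0) = 0 := le_antisymm Uq0 Lq0
                      have ep1 : b (e 1) v = 1 := le_antisymm Up1 Lp1
                      have eq1 : b v (e 1) = 1 := le_antisymm Uq1 Lq1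
                      have ep2 : b (e 2) v = 0 := le_antisymm Up2 Lp2
                      have eq2 : b v (e 2) = 0 := le_antisymm Uq2 Lq2
                      have ep3 : b (e 3) v = 0 := le_antisymm Up3 Lp3
                      have eq3 : b v (e 3) = 0 := le_antisymm Uq3 Lq3
                      have ep4 : b (e 4) v = 0 := le_antisymm Up4 Lp4
                      have eq4 : b v (e 4) = 0 := le_antisymm Uq4 Lq4
                      have ep5 : b (e 5) v = 0 := le_antisymm Up5 Lp5
                      have eq5 : b v (e 5) = 0 := le_antisymm Uq5 Lq5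
                      have ep6 : b (e 6) v = 0 := le_antisymm Up6 Lp6
                      have eq6 : b v (e 6) = 0 := le_antisymm Uq6 Lq6
                      exact NT.IsAffOf.of_emb C AffKnown.t8_6 ((E.snoc hv (p := ![0, 1, 0, 0, 0, 0, 0]) (q := ![0, 1, 0, 0, 0, 0, 0]) (fun i => by fin_cases i <;> assumption) (fun i => by fin_cases i <;> assumption)).perm ![0, 7, 1, 2, 3, 4, 5, 6] (by decide) M_t8_6 (by decide)) (by norm_num)
                        ![1, 1, 2, 2, 2, 2, 1, 1] (by decide) (by decide)
                    · have Lq1 : 2 ≤ b v (e 1) := hc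
                      exact (C.cert (E.snocLE hv (p := ![0, 1, 0, 0, 0, 0, 0]) (q := ![0, 2, 0, 0, 0, 0, 0]) (fun i => by fin_cases i <;> assumption) (fun i => by fin_cases i <;> assumption))
                        ![4, 9, 7, 5, 4, 2, 2, 9] (by decide) (by decide) (by decide) (by decide)).elim
                  · have Lp1 : 2 ≤ b (e 1) v := hc
                    exact (C.cert (E.snocLE hv (p := ![0, 2, 0, 0, 0, 0, 0]) (q := ![0, 1, 0, 0, 0, 0, 0]) (fun i => by fin_cases i <;> assumption) (fun i => by fin_cases i <;> assumption))
                      ![4, 9, 7, 5, 4, 2, 2, 4] (by decide) (by decide) (by decide) (by decide)).elim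
                · have Lp6 : 1 ≤ b (e 6) v := hc
                  have Lq6 : 1 ≤ b v (e 6) := C.pos_symm (hv 6) (by omega)
                  exact (C.cert (E.snocLE hv (p := ![0, 1, 0, 0, 0, 0, 1]) (q := ![0, 1, 0, 0, 0, 0, 1]) (fun i => by fin_cases i <;> assumption) (fun i => by fin_cases i <;> assumption))
                    ![1, 2, 2, 2, 2, 1, 2, 2] (by decide) (by decide) (by decide) (by decide)).elim
              · have Lp5 : 1 ≤ b (e 5) v := hc
                have Lq5 : 1 ≤ b v (e 5) := C.pos_symm (hv 5) (by omega)
                exact (C.cert (E.snocLE hv (p := ![0, 1, 0, 0, 0, 1, 0]) (q := ![0, 1, 0, 0, 0, 1, 0]) (fun i => by fin_cases i <;> assumption) (fun i => by fin_cases i <;> assumption))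
                  ![1, 2, 2, 2, 2, 2, 1, 2] (by decide) (by decide) (by decide) (by decide)).elim
            · have Lp4 : 1 ≤ b (e 4) v := hc
              have Lq4 : 1 ≤ b v (e 4) := C.pos_symm (hv 4) (by omega)
              exact (C.cert (E.snocLE hv (p := ![0, 1, 0, 0, 1, 0, 0]) (q := ![0, 1, 0, 0, 1, 0, 0]) (fun i => by fin_cases i <;> assumption) (fun i => by fin_cases i <;> assumption))
                ![1, 2, 2, 2, 3, 1, 1, 2] (by decide) (by decide) (by decide) (by decide)).elim
          · have Lp3 : 1 ≤ b (e 3) v := hc
            have Lq3 : 1 ≤ b v (e 3) := C.pos_symm (hv 3) (by omega)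
            exact (C.cert (E.snocLE hv (p := ![0, 1, 0, 1, 0, 0, 0]) (q := ![0, 1, 0, 1, 0, 0, 0]) (fun i => by fin_cases i <;> assumption) (fun i => by fin_cases i <;> assumption))
              ![1, 3, 3, 3, 2, 1, 1, 3] (by decide) (by decide) (by decide) (by decide)).elim
        · have Lp2 : 1 ≤ b (e 2) v := hc
          have Lq2 : 1 ≤ b v (e 2) := C.pos_symm (hv 2) (by omega)
          exact (C.cert (E.snocLE hv (p := ![0, 1, 1, 0, 0, 0, 0]) (q := ![0, 1, 1, 0, 0, 0, 0]) (fun i => by fin_cases i <;> assumption) (fun i => by fin_cases i <;> assumption))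
            ![2, 6, 6, 4, 2, 1, 1, 5] (by decide) (by decide) (by decide) (by decide)).elim
    · have Lp0 : 1 ≤ b (e 0) v := hc
      have Lq0 : 1 ≤ b v (e 0) := C.pos_symm (hv 0) (by omega)
      rcases le_or_gt (b (e 1) v) 0 with hc | hc
      · have Up1 : b (e 1) v ≤ 0 := hc
        have Uq1 : b v (e 1) ≤ 0 := C.le_zero_symm (hv 1) hc
        rcases le_or_gt (b (e 2) v) 0 with hc | hc
        · have Up2 : b (e 2) v ≤ 0 := hc
          have Uq2 : b v (e 2) ≤ 0 := C.le_zero_symm (hv 2) hc
          rcases le_or_gt (b (e 3) v) 0 with hc | hc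
          · have Up3 : b (e 3) v ≤ 0 := hc
            have Uq3 : b v (e 3) ≤ 0 := C.le_zero_symm (hv 3) hc
            rcases le_or_gt (b (e 4) v) 0 with hc | hc
            · have Up4 : b (e 4) v ≤ 0 := hc
              have Uq4 : b v (e 4) ≤ 0 := C.le_zero_symm (hv 4) hc
              rcases le_or_gt (b (e 5) v) 0 with hc | hc
              · have Up5 : b (e 5) v ≤ 0 := hc
                have Uq5 : b v (e 5) ≤ 0 := C.le_zero_symm (hv 5) hc
                rcases le_or_gt (b (e 6) v) 0 with hc | hc
                · have Up6 : b (e 6) v ≤ 0 := hc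
                  have Uq6 : b v (e 6) ≤ 0 := C.le_zero_symm (hv 6) hc
                  rcases le_or_gt (b (e 0) v) 1 with hc | hc
                  · have Up0 : b (e 0) v ≤ 1 := hc
                    rcases le_or_gt (b v (e 0)) 1 with hc | hc
                    · have Uq0 : b v (e 0) ≤ 1 := hc
                      have ep0 : b (e 0) v = 1 := le_antisymm Up0 Lp0
                      have eq0 : b v (e 0) = 1 := le_antisymm Uq0 Lq0
                      have ep1 : b (e 1) v = 0 := le_antisymm Up1 Lp1
                      have eq1 : b v (e 1) = 0 := le_antisymm Uq1 Lq1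
                      have ep2 : b (e 2) v = 0 := le_antisymm Up2 Lp2
                      have eq2 : b v (e 2) = 0 := le_antisymm Uq2 Lq2
                      have ep3 : b (e 3) v = 0 := le_antisymm Up3 Lp3
                      have eq3 : b v (e 3) = 0 := le_antisymm Uq3 Lq3
                      have ep4 : b (e 4) v = 0 := le_antisymm Up4 Lp4
                      have eq4 : b v (e 4) = 0 := le_antisymm Uq4 Lq4
                      have ep5 : b (e 5) v = 0 := le_antisymm Up5 Lp5
                      have eq5 : b v (e 5) = 0 := le_antisymm Uq5 Lq5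
                      have ep6 : b (e 6) v = 0 := le_antisymm Up6 Lp6
                      have eq6 : b v (e 6) = 0 := le_antisymm Uq6 Lq6
                      exact st29 C hn ((E.snoc hv (p := ![1, 0, 0, 0, 0, 0, 0]) (q := ![1, 0, 0, 0, 0, 0, 0]) (fun i => by fin_cases i <;> assumption) (fun i => by fin_cases i <;> assumption)).perm ![7, 0, 1, 2, 3, 4, 5, 6] (by decide) D29 (by decide))
                    · have Lq0 : 2 ≤ b v (e 0) := hc
                      rcases le_or_gt (b v (e 0)) 2 with hc | hc
                      · have Uq0 : b v (e 0) ≤ 2 := hc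
                        have ep0 : b (e 0) v = 1 := le_antisymm Up0 Lp0
                        have eq0 : b v (e 0) = 2 := le_antisymm Uq0 Lq0
                        have ep1 : b (e 1) v = 0 := le_antisymm Up1 Lp1
                        have eq1 : b v (e 1) = 0 := le_antisymm Uq1 Lq1
                        have ep2 : b (e 2) v = 0 := le_antisymm Up2 Lp2
                        have eq2 : b v (e 2) = 0 := le_antisymm Uq2 Lq2
                        have ep3 : b (e 3) v = 0 := le_antisymm Up3 Lp3
                        have eq3 : b v (e 3) = 0 := le_antisymm Uq3 Lq3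
                        have ep4 : b (e 4) v = 0 := le_antisymm Up4 Lp4
                        have eq4 : b v (e 4) = 0 := le_antisymm Uq4 Lq4
                        have ep5 : b (e 5) v = 0 := le_antisymm Up5 Lp5
                        have eq5 : b v (e 5) = 0 := le_antisymm Uq5 Lq5
                        have ep6 : b (e 6) v = 0 := le_antisymm Up6 Lp6
                        have eq6 : b v (e 6) = 0 := le_antisymm Uq6 Lq6
                        exact NT.IsAffOf.of_emb C AffKnown.t8_5 ((E.snoc hv (p := ![1, 0, 0, 0, 0, 0, 0]) (q := ![2, 0, 0, 0, 0, 0, 0]) (fun i => by fin_cases i <;> assumption) (fun i => by fin_cases i <;> assumption)).perm ![7, 0, 1, 2, 3, 4, 5, 6] (by decide) M_t8_5 (by decide)) (by norm_num)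
                          ![2, 2, 2, 2, 2, 2, 1, 1] (by decide) (by decide)
                      · have Lq0 : 3 ≤ b v (e 0) := hc
                        exact (C.cert (E.snocLE hv (p := ![1, 0, 0, 0, 0, 0, 0]) (q := ![3, 0, 0, 0, 0, 0, 0]) (fun i => by fin_cases i <;> assumption) (fun i => by fin_cases i <;> assumption))
                          ![12, 9, 7, 5, 4, 2, 2, 17] (by decide) (by decide) (by decide) (by decide)).elim
                  · have Lp0 : 2 ≤ b (e 0) v := hc
                    rcases le_or_gt (b (e 0) v) 2 with hc | hc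
                    · have Up0 : b (e 0) v ≤ 2 := hc
                      rcases le_or_gt (b v (e 0)) 1 with hc | hc
                      · have Uq0 : b v (e 0) ≤ 1 := hc
                        have ep0 : b (e 0) v = 2 := le_antisymm Up0 Lp0
                        have eq0 : b v (e 0) = 1 := le_antisymm Uq0 Lq0
                        have ep1 : b (e 1) v = 0 := le_antisymm Up1 Lp1
                        have eq1 : b v (e 1) = 0 := le_antisymm Uq1 Lq1
                        have ep2 : b (e 2) v = 0 := le_antisymm Up2 Lp2
                        have eq2 : b v (e 2) = 0 := le_antisymm Uq2 Lq2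
                        have ep3 : b (e 3) v = 0 := le_antisymm Up3 Lp3
                        have eq3 : b v (e 3) = 0 := le_antisymm Uq3 Lq3
                        have ep4 : b (e 4) v = 0 := le_antisymm Up4 Lp4
                        have eq4 : b v (e 4) = 0 := le_antisymm Uq4 Lq4
                        have ep5 : b (e 5) v = 0 := le_antisymm Up5 Lp5
                        have eq5 : b v (e 5) = 0 := le_antisymm Uq5 Lq5
                        have ep6 : b (e 6) v = 0 := le_antisymm Up6 Lp6
                        have eq6 : b v (e 6) = 0 := le_antisymm Uq6 Lq6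
                        exact NT.IsAffOf.of_emb C AffKnown.t8_4 ((E.snoc hv (p := ![2, 0, 0, 0, 0, 0, 0]) (q := ![1, 0, 0, 0, 0, 0, 0]) (fun i => by fin_cases i <;> assumption) (fun i => by fin_cases i <;> assumption)).perm ![7, 0, 1, 2, 3, 4, 5, 6] (by decide) M_t8_4 (by decide)) (by norm_num)
                          ![1, 2, 2, 2, 2, 2, 1, 1] (by decide) (by decide)
                      · have Lq0 : 2 ≤ b v (e 0) := hc
                        exact (C.cert (E.snocLE hv (p := ![2, 0, 0, 0, 0, 0, 0]) (q := ![2, 0, 0, 0, 0, 0, 0]) (fun i => by fin_cases i <;> assumption) (fun i => by fin_cases i <;> assumption))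
                          ![16, 9, 5, 3, 2, 1, 1, 14] (by decide) (by decide) (by decide) (by decide)).elim
                    · have Lp0 : 3 ≤ b (e 0) v := hc
                      exact (C.cert (E.snocLE hv (p := ![3, 0, 0, 0, 0, 0, 0]) (q := ![1, 0, 0, 0, 0, 0, 0]) (fun i => by fin_cases i <;> assumption) (fun i => by fin_cases i <;> assumption))
                        ![12, 9, 7, 5, 4, 2, 2, 6] (by decide) (by decide) (by decide) (by decide)).elim
                · have Lp6 : 1 ≤ b (e 6) v := hc
                  have Lq6 : 1 ≤ b v (e 6) := C.pos_symm (hv 6) (by omega)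
                  exact (C.cert (E.snocLE hv (p := ![1, 0, 0, 0, 0, 0, 1]) (q := ![1, 0, 0, 0, 0, 0, 1]) (fun i => by fin_cases i <;> assumption) (fun i => by fin_cases i <;> assumption))
                    ![3, 3, 3, 3, 4, 2, 3, 3] (by decide) (by decide) (by decide) (by decide)).elim
              · have Lp5 : 1 ≤ b (e 5) v := hc
                have Lq5 : 1 ≤ b v (e 5) := C.pos_symm (hv 5) (by omega)
                exact (C.cert (E.snocLE hv (p := ![1, 0, 0, 0, 0, 1, 0]) (q := ![1, 0, 0, 0, 0, 1, 0]) (fun i => by fin_cases i <;> assumption) (fun i => by fin_cases i <;> assumption))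
                  ![3, 3, 3, 3, 4, 3, 2, 3] (by decide) (by decide) (by decide) (by decide)).elim
            · have Lp4 : 1 ≤ b (e 4) v := hc
              have Lq4 : 1 ≤ b v (e 4) := C.pos_symm (hv 4) (by omega)
              exact (C.cert (E.snocLE hv (p := ![1, 0, 0, 0, 1, 0, 0]) (q := ![1, 0, 0, 0, 1, 0, 0]) (fun i => by fin_cases i <;> assumption) (fun i => by fin_cases i <;> assumption))
                ![2, 2, 2, 3, 4, 2, 2, 3] (by decide) (by decide) (by decide) (by decide)).elim
          · have Lp3 : 1 ≤ b (e 3) v := hc
            have Lq3 : 1 ≤ b v (e 3) := C.pos_symm (hv 3) (by omega)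
            exact (C.cert (E.snocLE hv (p := ![1, 0, 0, 1, 0, 0, 0]) (q := ![1, 0, 0, 1, 0, 0, 0]) (fun i => by fin_cases i <;> assumption) (fun i => by fin_cases i <;> assumption))
              ![2, 2, 2, 3, 2, 1, 1, 2] (by decide) (by decide) (by decide) (by decide)).elim
        · have Lp2 : 1 ≤ b (e 2) v := hc
          have Lq2 : 1 ≤ b v (e 2) := C.pos_symm (hv 2) (by omega)
          exact (C.cert (E.snocLE hv (p := ![1, 0, 1, 0, 0, 0, 0]) (q := ![1, 0, 1, 0, 0, 0, 0]) (fun i => by fin_cases i <;> assumption) (fun i => by fin_cases i <;> assumption))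
            ![3, 3, 4, 3, 2, 1, 1, 3] (by decide) (by decide) (by decide) (by decide)).elim
      · have Lp1 : 1 ≤ b (e 1) v := hc
        have Lq1 : 1 ≤ b v (e 1) := C.pos_symm (hv 1) (by omega)
        exact (C.cert (E.snocLE hv (p := ![1, 1, 0, 0, 0, 0, 0]) (q := ![1, 1, 0, 0, 0, 0, 0]) (fun i => by fin_cases i <;> assumption) (fun i => by fin_cases i <;> assumption))
          ![6, 7, 5, 3, 2, 1, 1, 6] (by decide) (by decide) (by decide) (by decide)).elim
  · exact (C.fin_cert E hge ![3, 6, 8, 10, 11, 6, 6] (by decide) (by decide) (by decide)).elim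

end Groth.Agent.Lib.Helper36.Grow
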