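import Groth.Agent.Lib.Helper36.Grow.Defs

/-! Growth step for the finite type diagram `D34` (generated, helper36). -/

set_option autoImplicit false
set_option linter.unusedVariables false
set_option linter.unnecessarySeqFocus false
open Finset
open Models Models.NumericalType
open Groth.Agent.Lib.Helper36

namespace Groth.Agent.Lib.Helper36.Grow

variable {n : ℕ} {T : Models.NumericalType n} {b : Fin n → Fin n → ℤ}

theorem st34 (C : NT.AffCtx T b) (hn : n ≤ 9) {e : Fin 9 → Fin n} (E : NT.Emb b D34 e) :
    NT.IsAffOf AffKnown b := by
  have hge : n ≤ 9 := hn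
  exact (C.fin_cert E hge ![3, 6, 9, 11, 13, 14, 15, 8, 8] (by decide) (by decide) (by decide)).elim

end Groth.Agent.Lib.Helper36.Grow
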