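import Groth.Agent.Lib.Helper36.Grow.St31
import Groth.Agent.Lib.Helper36.Grow.St32
import Groth.Agent.Lib.Helper36.Grow.St33
import Groth.Agent.Lib.Helper36.Grow.St34

/-! Growth step for the finite type diagram `D26` (generated, helper36). -/

set_option autoImplicit false
set_option linter.unusedVariables false
set_option linter.unnecessarySeqFocus false
open Finset
open Models Models.NumericalType
open Groth.Agent.Lib.Helper36

namespace Groth.Agent.Lib.Helper36.Grow

variable {n : ℕ} {T : Models.NumericalType n} {b : Fin n → Fin n → ℤ}

theorem st26 (C : NT.AffCtx T b) (hn : n ≤ 9) {e : Fin 8 → Fin n} (E : NT.Emb b D26 e) :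
    NT.IsAffOf AffKnown b := by
  rcases Nat.lt_or_ge 8 n with hlt | hge
  · obtain ⟨v, hv, hex⟩ := C.grow E.inj (by norm_num) hlt
    have Lp0 : 0 ≤ b (e 0) v := C.nonneg (hv 0)
    have Lq0 : 0 ≤ b v (e 0) := C.nonneg (hv 0).symm
    have Lp1 : 0 ≤ b (e 1) v := C.nonneg (hv 1)
    have Lq1 : 0 ≤ b v (e 1) := C.nonneg (hv 1).symm
    have Lp2 : 0 ≤ b (e 2) v := C.nonneg (hv 2)
    have Lq2 : 0 ≤ b v (e 2) := C.nonneg (hv 2).symm
    have Lp3 : 0 ≤ b (e 3) v := C.nonneg (hv 3)
    have Lq3 : 0 ≤ b v (e 3) := C.nonneg (hv 3).symm
    have Lp4 : 0 ≤ b (e 4) v := C.nonneg (hv 4)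
    have Lq4 : 0 ≤ b v (e 4) := C.nonneg (hv 4).symm
    have Lp5 : 0 ≤ b (e 5) v := C.nonneg (hv 5)
    have Lq5 : 0 ≤ b v (e 5) := C.nonneg (hv 5).symm
    have Lp6 : 0 ≤ b (e 6) v := C.nonneg (hv 6)
    have Lq6 : 0 ≤ b v (e 6) := C.nonneg (hv 6).symm
    have Lp7 : 0 ≤ b (e 7) v := C.nonneg (hv 7)
    have Lq7 : 0 ≤ b v (e 7) := C.nonneg (hv 7).symm
    rcases le_or_gt (b (e 0) v) 0 with hc | hc
    · have Up0 : b (e 0) v ≤ 0 := hc
      have Uq0 : b v (e 0) ≤ 0 := C.le_zero_symm (hv 0) hc
      rcases le_or_gt (b (e 1) v) 0 with hc | hc
      · have Up1 : b (e 1) v ≤ 0 := hc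
        have Uq1 : b v (e 1) ≤ 0 := C.le_zero_symm (hv 1) hc
        rcases le_or_gt (b (e 2) v) 0 with hc | hc
        · have Up2 : b (e 2) v ≤ 0 := hc
          have Uq2 : b v (e 2) ≤ 0 := C.le_zero_symm (hv 2) hc
          rcases le_or_gt (b (e 3) v) 0 with hc | hc
          · have Up3 : b (e 3) v ≤ 0 := hc
            have Uq3 : b v (e 3) ≤ 0 := C.le_zero_symm (hv 3) hc
            rcases le_or_gt (b (e 4) v) 0 with hc | hc
            · have Up4 : b (e 4) v ≤ 0 := hc
              have Uq4 : b v (e 4) ≤ 0 := C.le_zero_symm (hv 4) hc
              rcases le_or_gt (b (e 5) v) 0 with hc | hc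
              · have Up5 : b (e 5) v ≤ 0 := hc
                have Uq5 : b v (e 5) ≤ 0 := C.le_zero_symm (hv 5) hc
                rcases le_or_gt (b (e 6) v) 0 with hc | hc
                · have Up6 : b (e 6) v ≤ 0 := hc
                  have Uq6 : b v (e 6) ≤ 0 := C.le_zero_symm (hv 6) hc
                  rcases le_or_gt (b (e 7) v) 0 with hc | hc
                  · have Up7 : b (e 7) v ≤ 0 := hc
                    have Uq7 : b v (e 7) ≤ 0 := C.le_zero_symm (hv 7) hc
                    have hall : ∀ i, b (e i) v ≤ 0 := fun i => by fin_cases i <;> assumption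
                    obtain ⟨i, hi⟩ := hex
                    exact absurd (le_trans hi (hall i)) (by norm_num)
                  · have Lp7 : 1 ≤ b (e 7) v := hc
                    have Lq7 : 1 ≤ b v (e 7) := C.pos_symm (hv 7) (by omega)
                    rcases le_or_gt (b (e 7) v) 1 with hc | hc
                    · have Up7 : b (e 7) v ≤ 1 := hc
                      rcases le_or_gt (b v (e 7)) 1 with hc | hc
                      · have Uq7 : b v (e 7) ≤ 1 := hc
                        have ep0 : b (e 0) v = 0 := le_antisymm Up0 Lp0
                        have eq0 : b v (e 0) = 0 := le_antisymm Uq0 Lq0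
                        have ep1 : b (e 1) v = 0 := le_antisymm Up1 Lp1
                        have eq1 : b v (e 1) = 0 := le_antisymm Uq1 Lq1
                        have ep2 : b (e 2) v = 0 := le_antisymm Up2 Lp2
                        have eq2 : b v (e 2) = 0 := le_antisymm Uq2 Lq2
                        have ep3 : b (e 3) v = 0 := le_antisymm Up3 Lp3
                        have eq3 : b v (e 3) = 0 := le_antisymm Uq3 Lq3
                        have ep4 : b (e 4) v = 0 := le_antisymm Up4 Lp4
                        have eq4 : b v (e 4) = 0 := le_antisymm Uq4 Lq4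
                        have ep5 : b (e 5) v = 0 := le_antisymm Up5 Lp5
                        have eq5 : b v (e 5) = 0 := le_antisymm Uq5 Lq5
                        have ep6 : b (e 6) v = 0 := le_antisymm Up6 Lp6
                        have eq6 : b v (e 6) = 0 := le_antisymm Uq6 Lq6
                        have ep7 : b (e 7) v = 1 := le_antisymm Up7 Lp7
                        have eq7 : b v (e 7) = 1 := le_antisymm Uq7 Lq7
                        exact st31 C hn ((E.snoc hv (p := ![0, 0, 0, 0, 0, 0, 0, 1]) (q := ![0, 0, 0, 0, 0, 0, 0, 1]) (fun i => by fin_cases i <;> assumption) (fun i => by fin_cases i <;> assumption)).perm ![0, 1, 2, 3, 4, 5, 6, 7, 8] (by decide) D31 (by decide))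
                      · have Lq7 : 2 ≤ b v (e 7) := hc
                        rcases le_or_gt (b v (e 7)) 2 with hc | hc
                        · have Uq7 : b v (e 7) ≤ 2 := hc
                          have ep0 : b (e 0) v = 0 := le_antisymm Up0 Lp0
                          have eq0 : b v (e 0) = 0 := le_antisymm Uq0 Lq0
                          have ep1 : b (e 1) v = 0 := le_antisymm Up1 Lp1
                          have eq1 : b v (e 1) = 0 := le_antisymm Uq1 Lq1
                          have ep2 : b (e 2) v = 0 := le_antisymm Up2 Lp2
                          have eq2 : b v (e 2) = 0 := le_antisymm Uq2 Lq2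
                          have ep3 : b (e 3) v = 0 := le_antisymm Up3 Lp3
                          have eq3 : b v (e 3) = 0 := le_antisymm Uq3 Lq3
                          have ep4 : b (e 4) v = 0 := le_antisymm Up4 Lp4
                          have eq4 : b v (e 4) = 0 := le_antisymm Uq4 Lq4
                          have ep5 : b (e 5) v = 0 := le_antisymm Up5 Lp5
                          have eq5 : b v (e 5) = 0 := le_antisymm Uq5 Lq5
                          have ep6 : b (e 6) v = 0 := le_antisymm Up6 Lp6
                          have eq6 : b v (e 6) = 0 := le_antisymm Uq6 Lq6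
                          have ep7 : b (e 7) v = 1 := le_antisymm Up7 Lp7
                          have eq7 : b v (e 7) = 2 := le_antisymm Uq7 Lq7
                          exact st32 C hn ((E.snoc hv (p := ![0, 0, 0, 0, 0, 0, 0, 1]) (q := ![0, 0, 0, 0, 0, 0, 0, 2]) (fun i => by fin_cases i <;> assumption) (fun i => by fin_cases i <;> assumption)).perm ![0, 1, 2, 3, 4, 5, 6, 7, 8] (by decide) D32 (by decide))
                        · have Lq7 : 3 ≤ b v (e 7) := hc
                          exact (C.cert (E.snocLE hv (p := ![0, 0, 0, 0, 0, 0, 0, 1]) (q := ![0, 0, 0, 0, 0, 0, 0, 3]) (fun i => by fin_cases i <;> assumption) (fun i => by fin_cases i <;> assumption))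
                            ![1, 2, 3, 5, 8, 11, 16, 22, 32] (by decide) (by decide) (by decide) (by decide)).elim
                    · have Lp7 : 2 ≤ b (e 7) v := hc
                      rcases le_or_gt (b (e 7) v) 2 with hc | hc
                      · have Up7 : b (e 7) v ≤ 2 := hc
                        rcases le_or_gt (b v (e 7)) 1 with hc | hc
                        · have Uq7 : b v (e 7) ≤ 1 := hc
                          have ep0 : b (e 0) v = 0 := le_antisymm Up0 Lp0
                          have eq0 : b v (e 0) = 0 := le_antisymm Uq0 Lq0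
                          have ep1 : b (e 1) v = 0 := le_antisymm Up1 Lp1
                          have eq1 : b v (e 1) = 0 := le_antisymm Uq1 Lq1
                          have ep2 : b (e 2) v = 0 := le_antisymm Up2 Lp2
                          have eq2 : b v (e 2) = 0 := le_antisymm Uq2 Lq2
                          have ep3 : b (e 3) v = 0 := le_antisymm Up3 Lp3
                          have eq3 : b v (e 3) = 0 := le_antisymm Uq3 Lq3
                          have ep4 : b (e 4) v = 0 := le_antisymm Up4 Lp4
                          have eq4 : b v (e 4) = 0 := le_antisymm Uq4 Lq4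
                          have ep5 : b (e 5) v = 0 := le_antisymm Up5 Lp5
                          have eq5 : b v (e 5) = 0 := le_antisymm Uq5 Lq5
                          have ep6 : b (e 6) v = 0 := le_antisymm Up6 Lp6
                          have eq6 : b v (e 6) = 0 := le_antisymm Uq6 Lq6
                          have ep7 : b (e 7) v = 2 := le_antisymm Up7 Lp7
                          have eq7 : b v (e 7) = 1 := le_antisymm Uq7 Lq7
                          exact st33 C hn ((E.snoc hv (p := ![0, 0, 0, 0, 0, 0, 0, 2]) (q := ![0, 0, 0, 0, 0, 0, 0, 1]) (fun i => by fin_cases i <;> assumption) (fun i => by fin_cases i <;> assumption)).perm ![0, 1, 2, 3, 4, 5, 6, 7, 8] (by decide) D33 (by decide))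
                        · have Lq7 : 2 ≤ b v (e 7) := hc
                          exact (C.cert (E.snocLE hv (p := ![0, 0, 0, 0, 0, 0, 0, 2]) (q := ![0, 0, 0, 0, 0, 0, 0, 2]) (fun i => by fin_cases i <;> assumption) (fun i => by fin_cases i <;> assumption))
                            ![1, 2, 4, 8, 13, 23, 40, 70, 61] (by decide) (by decide) (by decide) (by decide)).elim
                      · have Lp7 : 3 ≤ b (e 7) v := hc
                        exact (C.cert (E.snocLE hv (p := ![0, 0, 0, 0, 0, 0, 0, 3]) (q := ![0, 0, 0, 0, 0, 0, 0, 1]) (fun i => by fin_cases i <;> assumption) (fun i => by fin_cases i <;> assumption))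
                          ![1, 2, 3, 5, 8, 11, 16, 22, 11] (by decide) (by decide) (by decide) (by decide)).elim
                · have Lp6 : 1 ≤ b (e 6) v := hc
                  have Lq6 : 1 ≤ b v (e 6) := C.pos_symm (hv 6) (by omega)
                  rcases le_or_gt (b (e 7) v) 0 with hc | hc
                  · have Up7 : b (e 7) v ≤ 0 := hc
                    have Uq7 : b v (e 7) ≤ 0 := C.le_zero_symm (hv 7) hc
                    rcases le_or_gt (b (e 6) v) 1 with hc | hc
                    · have Up6 : b (e 6) v ≤ 1 := hc
                      rcases le_or_gt (b v (e 6)) 1 with hc | hc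
                      · have Uq6 : b v (e 6) ≤ 1 := hc
                        have ep0 : b (e 0) v = 0 := le_antisymm Up0 Lp0
                        have eq0 : b v (e 0) = 0 := le_antisymm Uq0 Lq0
                        have ep1 : b (e 1) v = 0 := le_antisymm Up1 Lp1
                        have eq1 : b v (e 1) = 0 := le_antisymm Uq1 Lq1
                        have ep2 : b (e 2) v = 0 := le_antisymm Up2 Lp2
                        have eq2 : b v (e 2) = 0 := le_antisymm Uq2 Lq2
                        have ep3 : b (e 3) v = 0 := le_antisymm Up3 Lp3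
                        have eq3 : b v (e 3) = 0 := le_antisymm Uq3 Lq3
                        have ep4 : b (e 4) v = 0 := le_antisymm Up4 Lp4
                        have eq4 : b v (e 4) = 0 := le_antisymm Uq4 Lq4
                        have ep5 : b (e 5) v = 0 := le_antisymm Up5 Lp5
                        have eq5 : b v (e 5) = 0 := le_antisymm Uq5 Lq5
                        have ep6 : b (e 6) v = 1 := le_antisymm Up6 Lp6
                        have eq6 : b v (e 6) = 1 := le_antisymm Uq6 Lq6
                        have ep7 : b (e 7) v = 0 := le_antisymm Up7 Lp7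
                        have eq7 : b v (e 7) = 0 := le_antisymm Uq7 Lq7
                        exact st34 C hn ((E.snoc hv (p := ![0, 0, 0, 0, 0, 0, 1, 0]) (q := ![0, 0, 0, 0, 0, 0, 1, 0]) (fun i => by fin_cases i <;> assumption) (fun i => by fin_cases i <;> assumption)).perm ![0, 1, 2, 3, 4, 5, 6, 7, 8] (by decide) D34 (by decide))
                      · have Lq6 : 2 ≤ b v (e 6) := hc
                        exact (C.cert (E.snocLE hv (p := ![0, 0, 0, 0, 0, 0, 1, 0]) (q := ![0, 0, 0, 0, 0, 0, 2, 0]) (fun i => by fin_cases i <;> assumption) (fun i => by fin_cases i <;> assumption))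
                          ![1, 2, 3, 5, 8, 11, 16, 7, 15] (by decide) (by decide) (by decide) (by decide)).elim
                    · have Lp6 : 2 ≤ b (e 6) v := hc
                      exact (C.cert (E.snocLE hv (p := ![0, 0, 0, 0, 0, 0, 2, 0]) (q := ![0, 0, 0, 0, 0, 0, 1, 0]) (fun i => by fin_cases i <;> assumption) (fun i => by fin_cases i <;> assumption))
                        ![1, 2, 3, 5, 8, 11, 16, 7, 7] (by decide) (by decide) (by decide) (by decide)).elim
                  · have Lp7 : 1 ≤ b (e 7) v := hc
                    have Lq7 : 1 ≤ b v (e 7) := C.pos_symm (hv 7) (by omega)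
                    exact (C.cert (E.snocLE hv (p := ![0, 0, 0, 0, 0, 0, 1, 1]) (q := ![0, 0, 0, 0, 0, 0, 1, 1]) (fun i => by fin_cases i <;> assumption) (fun i => by fin_cases i <;> assumption))
                      ![1, 2, 4, 7, 11, 18, 29, 23, 23] (by decide) (by decide) (by decide) (by decide)).elim
              · have Lp5 : 1 ≤ b (e 5) v := hc
                have Lq5 : 1 ≤ b v (e 5) := C.pos_symm (hv 5) (by omega)
                rcases le_or_gt (b (e 6) v) 0 with hc | hc
                · have Up6 : b (e 6) v ≤ 0 := hc
                  have Uq6 : b v (e 6) ≤ 0 := C.le_zero_symm (hv 6) hc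
                  rcases le_or_gt (b (e 7) v) 0 with hc | hc
                  · have Up7 : b (e 7) v ≤ 0 := hc
                    have Uq7 : b v (e 7) ≤ 0 := C.le_zero_symm (hv 7) hc
                    rcases le_or_gt (b (e 5) v) 1 with hc | hc
                    · have Up5 : b (e 5) v ≤ 1 := hc
                      rcases le_or_gt (b v (e 5)) 1 with hc | hc
                      · have Uq5 : b v (e 5) ≤ 1 := hc
                        have ep0 : b (e 0) v = 0 := le_antisymm Up0 Lp0
                        have eq0 : b v (e 0) = 0 := le_antisymm Uq0 Lq0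
                        have ep1 : b (e 1) v = 0 := le_antisymm Up1 Lp1
                        have eq1 : b v (e 1) = 0 := le_antisymm Uq1 Lq1
                        have ep2 : b (e 2) v = 0 := le_antisymm Up2 Lp2
                        have eq2 : b v (e 2) = 0 := le_antisymm Uq2 Lq2
                        have ep3 : b (e 3) v = 0 := le_antisymm Up3 Lp3
                        have eq3 : b v (e 3) = 0 := le_antisymm Uq3 Lq3
                        have ep4 : b (e 4) v = 0 := le_antisymm Up4 Lp4
                        have eq4 : b v (e 4) = 0 := le_antisymm Uq4 Lq4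
                        have ep5 : b (e 5) v = 1 := le_antisymm Up5 Lp5
                        have eq5 : b v (e 5) = 1 := le_antisymm Uq5 Lq5
                        have ep6 : b (e 6) v = 0 := le_antisymm Up6 Lp6
                        have eq6 : b v (e 6) = 0 := le_antisymm Uq6 Lq6
                        have ep7 : b (e 7) v = 0 := le_antisymm Up7 Lp7
                        have eq7 : b v (e 7) = 0 := le_antisymm Uq7 Lq7
                        exact NT.IsAffOf.of_emb C AffKnown.t9_7 ((E.snoc hv (p := ![0, 0, 0, 0, 0, 1, 0, 0]) (q := ![0, 0, 0, 0, 0, 1, 0, 0]) (fun i => by fin_cases i <;> assumption) (fun i => by fin_cases i <;> assumption)).perm ![0, 1, 2, 3, 4, 5, 6, 7, 8] (by decide) M_t9_7 (by decide)) (by norm_num)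
                          ![1, 2, 3, 4, 5, 6, 4, 2, 3] (by decide) (by decide)
                      · have Lq5 : 2 ≤ b v (e 5) := hc
                        exact (C.cert (E.snocLE hv (p := ![0, 0, 0, 0, 0, 1, 0, 0]) (q := ![0, 0, 0, 0, 0, 2, 0, 0]) (fun i => by fin_cases i <;> assumption) (fun i => by fin_cases i <;> assumption))
                          ![1, 2, 4, 6, 9, 14, 8, 4, 13] (by decide) (by decide) (by decide) (by decide)).elim
                    · have Lp5 : 2 ≤ b (e 5) v := hc
                      exact (C.cert (E.snocLE hv (p := ![0, 0, 0, 0, 0, 2, 0, 0]) (q := ![0, 0, 0, 0, 0, 1, 0, 0]) (fun i => by fin_cases i <;> assumption) (fun i => by fin_cases i <;> assumption))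
                        ![1, 2, 4, 6, 9, 14, 8, 4, 6] (by decide) (by decide) (by decide) (by decide)).elim
                  · have Lp7 : 1 ≤ b (e 7) v := hc
                    have Lq7 : 1 ≤ b v (e 7) := C.pos_symm (hv 7) (by omega)
                    exact (C.cert (E.snocLE hv (p := ![0, 0, 0, 0, 0, 1, 0, 1]) (q := ![0, 0, 0, 0, 0, 1, 0, 1]) (fun i => by fin_cases i <;> assumption) (fun i => by fin_cases i <;> assumption))
                      ![1, 2, 4, 6, 10, 15, 12, 11, 12] (by decide) (by decide) (by decide) (by decide)).elim
                · have Lp6 : 1 ≤ b (e 6) v := hc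
                  have Lq6 : 1 ≤ b v (e 6) := C.pos_symm (hv 6) (by omega)
                  exact (C.cert (E.snocLE hv (p := ![0, 0, 0, 0, 0, 1, 1, 0]) (q := ![0, 0, 0, 0, 0, 1, 1, 0]) (fun i => by fin_cases i <;> assumption) (fun i => by fin_cases i <;> assumption))
                    ![1, 2, 5, 8, 15, 26, 25, 11, 22] (by decide) (by decide) (by decide) (by decide)).elim
            · have Lp4 : 1 ≤ b (e 4) v := hc
              have Lq4 : 1 ≤ b v (e 4) := C.pos_symm (hv 4) (by omega)
              exact (C.cert (E.snocLE hv (p := ![0, 0, 0, 0, 1, 0, 0, 0]) (q := ![0, 0, 0, 0, 1, 0, 0, 0]) (fun i => by fin_cases i <;> assumption) (fun i => by fin_cases i <;> assumption))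
                ![3, 6, 9, 12, 16, 12, 8, 4, 8] (by decide) (by decide) (by decide) (by decide)).elim
          · have Lp3 : 1 ≤ b (e 3) v := hc
            have Lq3 : 1 ≤ b v (e 3) := C.pos_symm (hv 3) (by omega)
            exact (C.cert (E.snocLE hv (p := ![0, 0, 0, 1, 0, 0, 0, 0]) (q := ![0, 0, 0, 1, 0, 0, 0, 0]) (fun i => by fin_cases i <;> assumption) (fun i => by fin_cases i <;> assumption))
              ![4, 8, 12, 16, 12, 9, 6, 3, 8] (by decide) (by decide) (by decide) (by decide)).elim
        · have Lp2 : 1 ≤ b (e 2) v := hc
          have Lq2 : 1 ≤ b v (e 2) := C.pos_symm (hv 2) (by omega)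
          rcases le_or_gt (b (e 3) v) 0 with hc | hc
          · have Up3 : b (e 3) v ≤ 0 := hc
            have Uq3 : b v (e 3) ≤ 0 := C.le_zero_symm (hv 3) hc
            rcases le_or_gt (b (e 4) v) 0 with hc | hc
            · have Up4 : b (e 4) v ≤ 0 := hc
              have Uq4 : b v (e 4) ≤ 0 := C.le_zero_symm (hv 4) hc
              rcases le_or_gt (b (e 5) v) 0 with hc | hc
              · have Up5 : b (e 5) v ≤ 0 := hc
                have Uq5 : b v (e 5) ≤ 0 := C.le_zero_symm (hv 5) hc
                rcases le_or_gt (b (e 6) v) 0 with hc | hc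
                · have Up6 : b (e 6) v ≤ 0 := hc
                  have Uq6 : b v (e 6) ≤ 0 := C.le_zero_symm (hv 6) hc
                  rcases le_or_gt (b (e 7) v) 0 with hc | hc
                  · have Up7 : b (e 7) v ≤ 0 := hc
                    have Uq7 : b v (e 7) ≤ 0 := C.le_zero_symm (hv 7) hc
                    rcases le_or_gt (b (e 2) v) 1 with hc | hc
                    · have Up2 : b (e 2) v ≤ 1 := hc
                      rcases le_or_gt (b v (e 2)) 1 with hc | hc
                      · have Uq2 : b v (e 2) ≤ 1 := hc
                        have ep0 : b (e 0) v = 0 := le_antisymm Up0 Lp0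
                        have eq0 : b v (e 0) = 0 := le_antisymm Uq0 Lq0
                        have ep1 : b (e 1) v = 0 := le_antisymm Up1 Lp1
                        have eq1 : b v (e 1) = 0 := le_antisymm Uq1 Lq1
                        have ep2 : b (e 2) v = 1 := le_antisymm Up2 Lp2
                        have eq2 : b v (e 2) = 1 := le_antisymm Uq2 Lq2
                        have ep3 : b (e 3) v = 0 := le_antisymm Up3 Lp3
                        have eq3 : b v (e 3) = 0 := le_antisymm Uq3 Lq3
                        have ep4 : b (e 4) v = 0 := le_antisymm Up4 Lp4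
                        have eq4 : b v (e 4) = 0 := le_antisymm Uq4 Lq4
                        have ep5 : b (e 5) v = 0 := le_antisymm Up5 Lp5
                        have eq5 : b v (e 5) = 0 := le_antisymm Uq5 Lq5
                        have ep6 : b (e 6) v = 0 := le_antisymm Up6 Lp6
                        have eq6 : b v (e 6) = 0 := le_antisymm Uq6 Lq6
                        have ep7 : b (e 7) v = 0 := le_antisymm Up7 Lp7
                        have eq7 : b v (e 7) = 0 := le_antisymm Uq7 Lq7
                        exact NT.IsAffOf.of_emb C AffKnown.t9_7 ((E.snoc hv (p := ![0, 0, 1, 0, 0, 0, 0, 0]) (q := ![0, 0, 1, 0, 0, 0, 0, 0]) (fun i => by fin_cases i <;> assumption) (fun i => by fin_cases i <;> assumption)).perm ![7, 6, 5, 4, 3, 2, 1, 0, 8] (by decide) M_t9_7 (by decide)) (by norm_num)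
                          ![1, 2, 3, 4, 5, 6, 4, 2, 3] (by decide) (by decide)
                      · have Lq2 : 2 ≤ b v (e 2) := hc
                        exact (C.cert (E.snocLE hv (p := ![0, 0, 1, 0, 0, 0, 0, 0]) (q := ![0, 0, 2, 0, 0, 0, 0, 0]) (fun i => by fin_cases i <;> assumption) (fun i => by fin_cases i <;> assumption))
                          ![4, 8, 14, 9, 6, 4, 2, 1, 13] (by decide) (by decide) (by decide) (by decide)).elim
                    · have Lp2 : 2 ≤ b (e 2) v := hc
                      exact (C.cert (E.snocLE hv (p := ![0, 0, 2, 0, 0, 0, 0, 0]) (q := ![0, 0, 1, 0, 0, 0, 0, 0]) (fun i => by fin_cases i <;> assumption) (fun i => by fin_cases i <;> assumption))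
                        ![4, 8, 14, 9, 6, 4, 2, 1, 6] (by decide) (by decide) (by decide) (by decide)).elim
                  · have Lp7 : 1 ≤ b (e 7) v := hc
                    have Lq7 : 1 ≤ b v (e 7) := C.pos_symm (hv 7) (by omega)
                    exact (C.cert (E.snocLE hv (p := ![0, 0, 1, 0, 0, 0, 0, 1]) (q := ![0, 0, 1, 0, 0, 0, 0, 1]) (fun i => by fin_cases i <;> assumption) (fun i => by fin_cases i <;> assumption))
                      ![1, 2, 4, 3, 2, 2, 2, 2, 3] (by decide) (by decide) (by decide) (by decide)).elim
                · have Lp6 : 1 ≤ b (e 6) v := hc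
                  have Lq6 : 1 ≤ b v (e 6) := C.pos_symm (hv 6) (by omega)
                  exact (C.cert (E.snocLE hv (p := ![0, 0, 1, 0, 0, 0, 1, 0]) (q := ![0, 0, 1, 0, 0, 0, 1, 0]) (fun i => by fin_cases i <;> assumption) (fun i => by fin_cases i <;> assumption))
                    ![2, 4, 8, 6, 5, 6, 7, 3, 7] (by decide) (by decide) (by decide) (by decide)).elim
              · have Lp5 : 1 ≤ b (e 5) v := hc
                have Lq5 : 1 ≤ b v (e 5) := C.pos_symm (hv 5) (by omega)
                exact (C.cert (E.snocLE hv (p := ![0, 0, 1, 0, 0, 1, 0, 0]) (q := ![0, 0, 1, 0, 0, 1, 0, 0]) (fun i => by fin_cases i <;> assumption) (fun i => by fin_cases i <;> assumption))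
                  ![1, 2, 4, 3, 3, 4, 2, 1, 4] (by decide) (by decide) (by decide) (by decide)).elim
            · have Lp4 : 1 ≤ b (e 4) v := hc
              have Lq4 : 1 ≤ b v (e 4) := C.pos_symm (hv 4) (by omega)
              exact (C.cert (E.snocLE hv (p := ![0, 0, 1, 0, 1, 0, 0, 0]) (q := ![0, 0, 1, 0, 1, 0, 0, 0]) (fun i => by fin_cases i <;> assumption) (fun i => by fin_cases i <;> assumption))
                ![2, 4, 7, 6, 8, 4, 2, 1, 6] (by decide) (by decide) (by decide) (by decide)).elim
          · have Lp3 : 1 ≤ b (e 3) v := hc
            have Lq3 : 1 ≤ b v (e 3) := C.pos_symm (hv 3) (by omega)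
            exact (C.cert (E.snocLE hv (p := ![0, 0, 1, 1, 0, 0, 0, 0]) (q := ![0, 0, 1, 1, 0, 0, 0, 0]) (fun i => by fin_cases i <;> assumption) (fun i => by fin_cases i <;> assumption))
              ![3, 8, 16, 16, 9, 5, 2, 1, 13] (by decide) (by decide) (by decide) (by decide)).elim
      · have Lp1 : 1 ≤ b (e 1) v := hc
        have Lq1 : 1 ≤ b v (e 1) := C.pos_symm (hv 1) (by omega)
        rcases le_or_gt (b (e 2) v) 0 with hc | hc
        · have Up2 : b (e 2) v ≤ 0 := hc
          have Uq2 : b v (e 2) ≤ 0 := C.le_zero_symm (hv 2) hc
          rcases le_or_gt (b (e 3) v) 0 with hc | hc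
          · have Up3 : b (e 3) v ≤ 0 := hc
            have Uq3 : b v (e 3) ≤ 0 := C.le_zero_symm (hv 3) hc
            rcases le_or_gt (b (e 4) v) 0 with hc | hc
            · have Up4 : b (e 4) v ≤ 0 := hc
              have Uq4 : b v (e 4) ≤ 0 := C.le_zero_symm (hv 4) hc
              rcases le_or_gt (b (e 5) v) 0 with hc | hc
              · have Up5 : b (e 5) v ≤ 0 := hc
                have Uq5 : b v (e 5) ≤ 0 := C.le_zero_symm (hv 5) hc
                rcases le_or_gt (b (e 6) v) 0 with hc | hc
                · have Up6 : b (e 6) v ≤ 0 := hc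
                  have Uq6 : b v (e 6) ≤ 0 := C.le_zero_symm (hv 6) hc
                  rcases le_or_gt (b (e 7) v) 0 with hc | hc
                  · have Up7 : b (e 7) v ≤ 0 := hc
                    have Uq7 : b v (e 7) ≤ 0 := C.le_zero_symm (hv 7) hc
                    rcases le_or_gt (b (e 1) v) 1 with hc | hc
                    · have Up1 : b (e 1) v ≤ 1 := hc
                      rcases le_or_gt (b v (e 1)) 1 with hc | hc
                      · have Uq1 : b v (e 1) ≤ 1 := hc
                        have ep0 : b (e 0) v = 0 := le_antisymm Up0 Lp0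
                        have eq0 : b v (e 0) = 0 := le_antisymm Uq0 Lq0
                        have ep1 : b (e 1) v = 1 := le_antisymm Up1 Lp1
                        have eq1 : b v (e 1) = 1 := le_antisymm Uq1 Lq1
                        have ep2 : b (e 2) v = 0 := le_antisymm Up2 Lp2
                        have eq2 : b v (e 2) = 0 := le_antisymm Uq2 Lq2
                        have ep3 : b (e 3) v = 0 := le_antisymm Up3 Lp3
                        have eq3 : b v (e 3) = 0 := le_antisymm Uq3 Lq3
                        have ep4 : b (e 4) v = 0 := le_antisymm Up4 Lp4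
                        have eq4 : b v (e 4) = 0 := le_antisymm Uq4 Lq4
                        have ep5 : b (e 5) v = 0 := le_antisymm Up5 Lp5
                        have eq5 : b v (e 5) = 0 := le_antisymm Uq5 Lq5
                        have ep6 : b (e 6) v = 0 := le_antisymm Up6 Lp6
                        have eq6 : b v (e 6) = 0 := le_antisymm Uq6 Lq6
                        have ep7 : b (e 7) v = 0 := le_antisymm Up7 Lp7
                        have eq7 : b v (e 7) = 0 := le_antisymm Uq7 Lq7
                        exact st34 C hn ((E.snoc hv (p := ![0, 1, 0, 0, 0, 0, 0, 0]) (q := ![0, 1, 0, 0, 0, 0, 0, 0]) (fun i => by fin_cases i <;> assumption) (fun i => by fin_cases i <;> assumption)).perm ![7, 6, 5, 4, 3, 2, 1, 0, 8] (by decide) D34 (by decide))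
                      · have Lq1 : 2 ≤ b v (e 1) := hc
                        exact (C.cert (E.snocLE hv (p := ![0, 1, 0, 0, 0, 0, 0, 0]) (q := ![0, 2, 0, 0, 0, 0, 0, 0]) (fun i => by fin_cases i <;> assumption) (fun i => by fin_cases i <;> assumption))
                          ![7, 16, 11, 8, 5, 3, 2, 1, 15] (by decide) (by decide) (by decide) (by decide)).elim
                    · have Lp1 : 2 ≤ b (e 1) v := hc
                      exact (C.cert (E.snocLE hv (p := ![0, 2, 0, 0, 0, 0, 0, 0]) (q := ![0, 1, 0, 0, 0, 0, 0, 0]) (fun i => by fin_cases i <;> assumption) (fun i => by fin_cases i <;> assumption))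
                        ![7, 16, 11, 8, 5, 3, 2, 1, 7] (by decide) (by decide) (by decide) (by decide)).elim
                  · have Lp7 : 1 ≤ b (e 7) v := hc
                    have Lq7 : 1 ≤ b v (e 7) := C.pos_symm (hv 7) (by omega)
                    exact (C.cert (E.snocLE hv (p := ![0, 1, 0, 0, 0, 0, 0, 1]) (q := ![0, 1, 0, 0, 0, 0, 0, 1]) (fun i => by fin_cases i <;> assumption) (fun i => by fin_cases i <;> assumption))
                      ![3, 6, 5, 4, 4, 4, 4, 4, 5] (by decide) (by decide) (by decide) (by decide)).elim
                · have Lp6 : 1 ≤ b (e 6) v := hc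
                  have Lq6 : 1 ≤ b v (e 6) := C.pos_symm (hv 6) (by omega)
                  exact (C.cert (E.snocLE hv (p := ![0, 1, 0, 0, 0, 0, 1, 0]) (q := ![0, 1, 0, 0, 0, 0, 1, 0]) (fun i => by fin_cases i <;> assumption) (fun i => by fin_cases i <;> assumption))
                    ![2, 4, 3, 3, 3, 3, 4, 2, 4] (by decide) (by decide) (by decide) (by decide)).elim
              · have Lp5 : 1 ≤ b (e 5) v := hc
                have Lq5 : 1 ≤ b v (e 5) := C.pos_symm (hv 5) (by omega)
                exact (C.cert (E.snocLE hv (p := ![0, 1, 0, 0, 0, 1, 0, 0]) (q := ![0, 1, 0, 0, 0, 1, 0, 0]) (fun i => by fin_cases i <;> assumption) (fun i => by fin_cases i <;> assumption))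
                  ![3, 7, 6, 5, 6, 8, 4, 2, 7] (by decide) (by decide) (by decide) (by decide)).elim
            · have Lp4 : 1 ≤ b (e 4) v := hc
              have Lq4 : 1 ≤ b v (e 4) := C.pos_symm (hv 4) (by omega)
              exact (C.cert (E.snocLE hv (p := ![0, 1, 0, 0, 1, 0, 0, 0]) (q := ![0, 1, 0, 0, 1, 0, 0, 0]) (fun i => by fin_cases i <;> assumption) (fun i => by fin_cases i <;> assumption))
                ![3, 6, 5, 5, 7, 4, 2, 1, 6] (by decide) (by decide) (by decide) (by decide)).elim
          · have Lp3 : 1 ≤ b (e 3) v := hc
            have Lq3 : 1 ≤ b v (e 3) := C.pos_symm (hv 3) (by omega)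
            exact (C.cert (E.snocLE hv (p := ![0, 1, 0, 1, 0, 0, 0, 0]) (q := ![0, 1, 0, 1, 0, 0, 0, 0]) (fun i => by fin_cases i <;> assumption) (fun i => by fin_cases i <;> assumption))
              ![5, 11, 10, 12, 7, 4, 2, 1, 10] (by decide) (by decide) (by decide) (by decide)).elim
        · have Lp2 : 1 ≤ b (e 2) v := hc
          have Lq2 : 1 ≤ b v (e 2) := C.pos_symm (hv 2) (by omega)
          exact (C.cert (E.snocLE hv (p := ![0, 1, 1, 0, 0, 0, 0, 0]) (q := ![0, 1, 1, 0, 0, 0, 0, 0]) (fun i => by fin_cases i <;> assumption) (fun i => by fin_cases i <;> assumption))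
            ![11, 25, 26, 15, 8, 5, 2, 1, 22] (by decide) (by decide) (by decide) (by decide)).elim
    · have Lp0 : 1 ≤ b (e 0) v := hc
      have Lq0 : 1 ≤ b v (e 0) := C.pos_symm (hv 0) (by omega)
      rcases le_or_gt (b (e 1) v) 0 with hc | hc
      · have Up1 : b (e 1) v ≤ 0 := hc
        have Uq1 : b v (e 1) ≤ 0 := C.le_zero_symm (hv 1) hc
        rcases le_or_gt (b (e 2) v) 0 with hc | hc
        · have Up2 : b (e 2) v ≤ 0 := hc
          have Uq2 : b v (e 2) ≤ 0 := C.le_zero_symm (hv 2) hc
          rcases le_or_gt (b (e 3) v) 0 with hc | hc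
          · have Up3 : b (e 3) v ≤ 0 := hc
            have Uq3 : b v (e 3) ≤ 0 := C.le_zero_symm (hv 3) hc
            rcases le_or_gt (b (e 4) v) 0 with hc | hc
            · have Up4 : b (e 4) v ≤ 0 := hc
              have Uq4 : b v (e 4) ≤ 0 := C.le_zero_symm (hv 4) hc
              rcases le_or_gt (b (e 5) v) 0 with hc | hc
              · have Up5 : b (e 5) v ≤ 0 := hc
                have Uq5 : b v (e 5) ≤ 0 := C.le_zero_symm (hv 5) hc
                rcases le_or_gt (b (e 6) v) 0 with hc | hc
                · have Up6 : b (e 6) v ≤ 0 := hc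
                  have Uq6 : b v (e 6) ≤ 0 := C.le_zero_symm (hv 6) hc
                  rcases le_or_gt (b (e 7) v) 0 with hc | hc
                  · have Up7 : b (e 7) v ≤ 0 := hc
                    have Uq7 : b v (e 7) ≤ 0 := C.le_zero_symm (hv 7) hc
                    rcases le_or_gt (b (e 0) v) 1 with hc | hc
                    · have Up0 : b (e 0) v ≤ 1 := hc
                      rcases le_or_gt (b v (e 0)) 1 with hc | hc
                      · have Uq0 : b v (e 0) ≤ 1 := hc
                        have ep0 : b (e 0) v = 1 := le_antisymm Up0 Lp0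
                        have eq0 : b v (e 0) = 1 := le_antisymm Uq0 Lq0
                        have ep1 : b (e 1) v = 0 := le_antisymm Up1 Lp1
                        have eq1 : b v (e 1) = 0 := le_antisymm Uq1 Lq1
                        have ep2 : b (e 2) v = 0 := le_antisymm Up2 Lp2
                        have eq2 : b v (e 2) = 0 := le_antisymm Uq2 Lq2
                        have ep3 : b (e 3) v = 0 := le_antisymm Up3 Lp3
                        have eq3 : b v (e 3) = 0 := le_antisymm Uq3 Lq3
                        have ep4 : b (e 4) v = 0 := le_antisymm Up4 Lp4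
                        have eq4 : b v (e 4) = 0 := le_antisymm Uq4 Lq4
                        have ep5 : b (e 5) v = 0 := le_antisymm Up5 Lp5
                        have eq5 : b v (e 5) = 0 := le_antisymm Uq5 Lq5
                        have ep6 : b (e 6) v = 0 := le_antisymm Up6 Lp6
                        have eq6 : b v (e 6) = 0 := le_antisymm Uq6 Lq6
                        have ep7 : b (e 7) v = 0 := le_antisymm Up7 Lp7
                        have eq7 : b v (e 7) = 0 := le_antisymm Uq7 Lq7
                        exact st31 C hn ((E.snoc hv (p := ![1, 0, 0, 0, 0, 0, 0, 0]) (q := ![1, 0, 0, 0, 0, 0, 0, 0]) (fun i => by fin_cases i <;> assumption) (fun i => by fin_cases i <;> assumption)).perm ![7, 6, 5, 4, 3, 2, 1, 0, 8] (by decide) D31 (by decide))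
                      · have Lq0 : 2 ≤ b v (e 0) := hc
                        rcases le_or_gt (b v (e 0)) 2 with hc | hc
                        · have Uq0 : b v (e 0) ≤ 2 := hc
                          have ep0 : b (e 0) v = 1 := le_antisymm Up0 Lp0
                          have eq0 : b v (e 0) = 2 := le_antisymm Uq0 Lq0
                          have ep1 : b (e 1) v = 0 := le_antisymm Up1 Lp1
                          have eq1 : b v (e 1) = 0 := le_antisymm Uq1 Lq1
                          have ep2 : b (e 2) v = 0 := le_antisymm Up2 Lp2
                          have eq2 : b v (e 2) = 0 := le_antisymm Uq2 Lq2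
                          have ep3 : b (e 3) v = 0 := le_antisymm Up3 Lp3
                          have eq3 : b v (e 3) = 0 := le_antisymm Uq3 Lq3
                          have ep4 : b (e 4) v = 0 := le_antisymm Up4 Lp4
                          have eq4 : b v (e 4) = 0 := le_antisymm Uq4 Lq4
                          have ep5 : b (e 5) v = 0 := le_antisymm Up5 Lp5
                          have eq5 : b v (e 5) = 0 := le_antisymm Uq5 Lq5
                          have ep6 : b (e 6) v = 0 := le_antisymm Up6 Lp6
                          have eq6 : b v (e 6) = 0 := le_antisymm Uq6 Lq6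
                          have ep7 : b (e 7) v = 0 := le_antisymm Up7 Lp7
                          have eq7 : b v (e 7) = 0 := le_antisymm Uq7 Lq7
                          exact st32 C hn ((E.snoc hv (p := ![1, 0, 0, 0, 0, 0, 0, 0]) (q := ![2, 0, 0, 0, 0, 0, 0, 0]) (fun i => by fin_cases i <;> assumption) (fun i => by fin_cases i <;> assumption)).perm ![7, 6, 5, 4, 3, 2, 1, 0, 8] (by decide) D32 (by decide))
                        · have Lq0 : 3 ≤ b v (e 0) := hc
                          exact (C.cert (E.snocLE hv (p := ![1, 0, 0, 0, 0, 0, 0, 0]) (q := ![3, 0, 0, 0, 0, 0, 0, 0]) (fun i => by fin_cases i <;> assumption) (fun i => by fin_cases i <;> assumption))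
                            ![22, 16, 11, 8, 5, 3, 2, 1, 32] (by decide) (by decide) (by decide) (by decide)).elim
                    · have Lp0 : 2 ≤ b (e 0) v := hc
                      rcases le_or_gt (b (e 0) v) 2 with hc | hc
                      · have Up0 : b (e 0) v ≤ 2 := hc
                        rcases le_or_gt (b v (e 0)) 1 with hc | hc
                        · have Uq0 : b v (e 0) ≤ 1 := hc
                          have ep0 : b (e 0) v = 2 := le_antisymm Up0 Lp0
                          have eq0 : b v (e 0) = 1 := le_antisymm Uq0 Lq0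
                          have ep1 : b (e 1) v = 0 := le_antisymm Up1 Lp1
                          have eq1 : b v (e 1) = 0 := le_antisymm Uq1 Lq1
                          have ep2 : b (e 2) v = 0 := le_antisymm Up2 Lp2
                          have eq2 : b v (e 2) = 0 := le_antisymm Uq2 Lq2
                          have ep3 : b (e 3) v = 0 := le_antisymm Up3 Lp3
                          have eq3 : b v (e 3) = 0 := le_antisymm Uq3 Lq3
                          have ep4 : b (e 4) v = 0 := le_antisymm Up4 Lp4
                          have eq4 : b v (e 4) = 0 := le_antisymm Uq4 Lq4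
                          have ep5 : b (e 5) v = 0 := le_antisymm Up5 Lp5
                          have eq5 : b v (e 5) = 0 := le_antisymm Uq5 Lq5
                          have ep6 : b (e 6) v = 0 := le_antisymm Up6 Lp6
                          have eq6 : b v (e 6) = 0 := le_antisymm Uq6 Lq6
                          have ep7 : b (e 7) v = 0 := le_antisymm Up7 Lp7
                          have eq7 : b v (e 7) = 0 := le_antisymm Uq7 Lq7
                          exact st33 C hn ((E.snoc hv (p := ![2, 0, 0, 0, 0, 0, 0, 0]) (q := ![1, 0, 0, 0, 0, 0, 0, 0]) (fun i => by fin_cases i <;> assumption) (fun i => by fin_cases i <;> assumption)).perm ![7, 6, 5, 4, 3, 2, 1, 0, 8] (by decide) D33 (by decide))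
                        · have Lq0 : 2 ≤ b v (e 0) := hc
                          exact (C.cert (E.snocLE hv (p := ![2, 0, 0, 0, 0, 0, 0, 0]) (q := ![2, 0, 0, 0, 0, 0, 0, 0]) (fun i => by fin_cases i <;> assumption) (fun i => by fin_cases i <;> assumption))
                            ![70, 40, 23, 13, 8, 4, 2, 1, 61] (by decide) (by decide) (by decide) (by decide)).elim
                      · have Lp0 : 3 ≤ b (e 0) v := hc
                        exact (C.cert (E.snocLE hv (p := ![3, 0, 0, 0, 0, 0, 0, 0]) (q := ![1, 0, 0, 0, 0, 0, 0, 0]) (fun i => by fin_cases i <;> assumption) (fun i => by fin_cases i <;> assumption))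
                          ![22, 16, 11, 8, 5, 3, 2, 1, 11] (by decide) (by decide) (by decide) (by decide)).elim
                  · have Lp7 : 1 ≤ b (e 7) v := hc
                    have Lq7 : 1 ≤ b v (e 7) := C.pos_symm (hv 7) (by omega)
                    rcases le_or_gt (b (e 0) v) 1 with hc | hc
                    · have Up0 : b (e 0) v ≤ 1 := hc
                      rcases le_or_gt (b (e 7) v) 1 with hc | hc
                      · have Up7 : b (e 7) v ≤ 1 := hc
                        rcases le_or_gt (b v (e 0)) 1 with hc | hc
                        · have Uq0 : b v (e 0) ≤ 1 := hc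
                          rcases le_or_gt (b v (e 7)) 1 with hc | hc
                          · have Uq7 : b v (e 7) ≤ 1 := hc
                            have ep0 : b (e 0) v = 1 := le_antisymm Up0 Lp0
                            have eq0 : b v (e 0) = 1 := le_antisymm Uq0 Lq0
                            have ep1 : b (e 1) v = 0 := le_antisymm Up1 Lp1
                            have eq1 : b v (e 1) = 0 := le_antisymm Uq1 Lq1
                            have ep2 : b (e 2) v = 0 := le_antisymm Up2 Lp2
                            have eq2 : b v (e 2) = 0 := le_antisymm Uq2 Lq2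
                            have ep3 : b (e 3) v = 0 := le_antisymm Up3 Lp3
                            have eq3 : b v (e 3) = 0 := le_antisymm Uq3 Lq3
                            have ep4 : b (e 4) v = 0 := le_antisymm Up4 Lp4
                            have eq4 : b v (e 4) = 0 := le_antisymm Uq4 Lq4
                            have ep5 : b (e 5) v = 0 := le_antisymm Up5 Lp5
                            have eq5 : b v (e 5) = 0 := le_antisymm Uq5 Lq5
                            have ep6 : b (e 6) v = 0 := le_antisymm Up6 Lp6
                            have eq6 : b v (e 6) = 0 := le_antisymm Uq6 Lq6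
                            have ep7 : b (e 7) v = 1 := le_antisymm Up7 Lp7
                            have eq7 : b v (e 7) = 1 := le_antisymm Uq7 Lq7
                            exact NT.IsAffOf.of_emb C AffKnown.t9_0 ((E.snoc hv (p := ![1, 0, 0, 0, 0, 0, 0, 1]) (q := ![1, 0, 0, 0, 0, 0, 0, 1]) (fun i => by fin_cases i <;> assumption) (fun i => by fin_cases i <;> assumption)).perm ![0, 1, 2, 3, 4, 5, 6, 7, 8] (by decide) M_t9_0 (by decide)) (by norm_num)
                              ![1, 1, 1, 1, 1, 1, 1, 1, 1] (by decide) (by decide)
                          · have Lq7 : 2 ≤ b v (e 7) := hc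
                            exact (C.cert (E.snocLE hv (p := ![1, 0, 0, 0, 0, 0, 0, 1]) (q := ![1, 0, 0, 0, 0, 0, 0, 2]) (fun i => by fin_cases i <;> assumption) (fun i => by fin_cases i <;> assumption))
                              ![2, 1, 1, 1, 1, 1, 1, 2, 3] (by decide) (by decide) (by decide) (by decide)).elim
                        · have Lq0 : 2 ≤ b v (e 0) := hc
                          exact (C.cert (E.snocLE hv (p := ![1, 0, 0, 0, 0, 0, 0, 1]) (q := ![2, 0, 0, 0, 0, 0, 0, 1]) (fun i => by fin_cases i <;> assumption) (fun i => by fin_cases i <;> assumption))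
                            ![2, 1, 1, 1, 1, 1, 1, 2, 3] (by decide) (by decide) (by decide) (by decide)).elim
                      · have Lp7 : 2 ≤ b (e 7) v := hc
                        exact (C.cert (E.snocLE hv (p := ![1, 0, 0, 0, 0, 0, 0, 2]) (q := ![1, 0, 0, 0, 0, 0, 0, 1]) (fun i => by fin_cases i <;> assumption) (fun i => by fin_cases i <;> assumption))
                          ![1, 1, 1, 1, 1, 1, 2, 3, 2] (by decide) (by decide) (by decide) (by decide)).elim
                    · have Lp0 : 2 ≤ b (e 0) v := hc
                      exact (C.cert (E.snocLE hv (p := ![2, 0, 0, 0, 0, 0, 0, 1]) (q := ![1, 0, 0, 0, 0, 0, 0, 1]) (fun i => by fin_cases i <;> assumption) (fun i => by fin_cases i <;> assumption))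
                        ![3, 2, 1, 1, 1, 1, 1, 1, 2] (by decide) (by decide) (by decide) (by decide)).elim
                · have Lp6 : 1 ≤ b (e 6) v := hc
                  have Lq6 : 1 ≤ b v (e 6) := C.pos_symm (hv 6) (by omega)
                  exact (C.cert (E.snocLE hv (p := ![1, 0, 0, 0, 0, 0, 1, 0]) (q := ![1, 0, 0, 0, 0, 0, 1, 0]) (fun i => by fin_cases i <;> assumption) (fun i => by fin_cases i <;> assumption))
                    ![4, 4, 4, 4, 4, 5, 6, 3, 5] (by decide) (by decide) (by decide) (by decide)).elim
              · have Lp5 : 1 ≤ b (e 5) v := hc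
                have Lq5 : 1 ≤ b v (e 5) := C.pos_symm (hv 5) (by omega)
                exact (C.cert (E.snocLE hv (p := ![1, 0, 0, 0, 0, 1, 0, 0]) (q := ![1, 0, 0, 0, 0, 1, 0, 0]) (fun i => by fin_cases i <;> assumption) (fun i => by fin_cases i <;> assumption))
                  ![2, 2, 2, 2, 3, 4, 2, 1, 3] (by decide) (by decide) (by decide) (by decide)).elim
            · have Lp4 : 1 ≤ b (e 4) v := hc
              have Lq4 : 1 ≤ b v (e 4) := C.pos_symm (hv 4) (by omega)
              exact (C.cert (E.snocLE hv (p := ![1, 0, 0, 0, 1, 0, 0, 0]) (q := ![1, 0, 0, 0, 1, 0, 0, 0]) (fun i => by fin_cases i <;> assumption) (fun i => by fin_cases i <;> assumption))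
                ![3, 3, 3, 4, 6, 4, 2, 1, 4] (by decide) (by decide) (by decide) (by decide)).elim
          · have Lp3 : 1 ≤ b (e 3) v := hc
            have Lq3 : 1 ≤ b v (e 3) := C.pos_symm (hv 3) (by omega)
            exact (C.cert (E.snocLE hv (p := ![1, 0, 0, 1, 0, 0, 0, 0]) (q := ![1, 0, 0, 1, 0, 0, 0, 0]) (fun i => by fin_cases i <;> assumption) (fun i => by fin_cases i <;> assumption))
              ![6, 6, 7, 9, 6, 4, 2, 1, 7] (by decide) (by decide) (by decide) (by decide)).elim
        · have Lp2 : 1 ≤ b (e 2) v := hc
          have Lq2 : 1 ≤ b v (e 2) := C.pos_symm (hv 2) (by omega)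
          exact (C.cert (E.snocLE hv (p := ![1, 0, 1, 0, 0, 0, 0, 0]) (q := ![1, 0, 1, 0, 0, 0, 0, 0]) (fun i => by fin_cases i <;> assumption) (fun i => by fin_cases i <;> assumption))
            ![11, 12, 15, 10, 6, 4, 2, 1, 12] (by decide) (by decide) (by decide) (by decide)).elim
      · have Lp1 : 1 ≤ b (e 1) v := hc
        have Lq1 : 1 ≤ b v (e 1) := C.pos_symm (hv 1) (by omega)
        exact (C.cert (E.snocLE hv (p := ![1, 1, 0, 0, 0, 0, 0, 0]) (q := ![1, 1, 0, 0, 0, 0, 0, 0]) (fun i => by fin_cases i <;> assumption) (fun i => by fin_cases i <;> assumption))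
          ![23, 29, 18, 11, 7, 4, 2, 1, 23] (by decide) (by decide) (by decide) (by decide)).elim
  · exact (C.fin_cert E hge ![1, 2, 3, 3, 3, 3, 2, 1] (by decide) (by decide) (by decide)).elim

end Groth.Agent.Lib.Helper36.Grow
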