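import Groth.Agent.Lib.Helper36.Grow.Sums

/-! The type `t5_0` of the genus one classification (generated, helper36). -/

set_option autoImplicit false
set_option linter.unusedVariables false
open Finset
open Models Models.NumericalType
open Groth.Agent.Lib.Helper36

namespace Groth.Agent.Lib.Helper36.Grow

theorem succ_t5_0 {T : Models.NumericalType 5} {b : Fin 5 → Fin 5 → ℤ} (C : NT.AffCtx T b)
    {e : Fin 5 → Fin 5} (E : NT.Emb b M_t5_0 e) :
    ∃ (σ : Equiv.Perm (Fin 5)) (m w : ℤ),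
      (T.m (σ 0) = m ∧ T.m (σ 1) = m ∧ T.m (σ 2) = m ∧ T.m (σ 3) = m ∧ T.m (σ 4) = m ∧ T.w (σ 0) = w ∧ T.w (σ 1) = w ∧ T.w (σ 2) = w ∧ T.w (σ 3) = w ∧ T.w (σ 4) = w ∧ T.a (σ 0) (σ 0) = -2 * w ∧ T.a (σ 0) (σ 1) = w ∧ T.a (σ 0) (σ 2) = 0 ∧ T.a (σ 0) (σ 3) = 0 ∧ T.a (σ 0) (σ 4) = w ∧ T.a (σ 1) (σ 1) = -2 * w ∧ T.a (σ 1) (σ 2) = w ∧ T.a (σ 1) (σ 3) = 0 ∧ T.a (σ 1) (σ 4) = 0 ∧ T.a (σ 2) (σ 2) = -2 * w ∧ T.a (σ 2) (σ 3) = w ∧ T.a (σ 2) (σ 4) = 0 ∧ T.a (σ 3) (σ 3) = -2 * w ∧ T.a (σ 3) (σ 4) = w ∧ T.a (σ 4) (σ 4) = -2 * w) := by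
  have hbij : Function.Bijective e := Finite.injective_iff_bijective.mp E.inj
  obtain ⟨σ, hσ⟩ : ∃ σ : Equiv.Perm (Fin 5), ∀ i, σ i = e i := ⟨Equiv.ofBijective e hbij, fun i => rfl⟩
  refine ⟨σ, T.m (e 0), T.w (e 0), ?_⟩
  rw [hσ 0, hσ 1, hσ 2, hσ 3, hσ 4]
  have r0 : 1 * T.m (e 1) + 0 * T.m (e 2) + 0 * T.m (e 3) + 1 * T.m (e 4) = 2 * T.m (e 0) := by
    have h := C.row_emb E le_rfl 0
    rw [sum_fin5] at h
    simp only [M_t5_0] at h
    simpa using h
  have r1 : 1 * T.m (e 0) + 1 * T.m (e 2) + 0 * T.m (e 3) + 0 * T.m (e 4) = 2 * T.m (e 1) := by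
    have h := C.row_emb E le_rfl 1
    rw [sum_fin5] at h
    simp only [M_t5_0] at h
    simpa using h
  have r2 : 0 * T.m (e 0) + 1 * T.m (e 1) + 1 * T.m (e 3) + 0 * T.m (e 4) = 2 * T.m (e 2) := by
    have h := C.row_emb E le_rfl 2
    rw [sum_fin5] at h
    simp only [M_t5_0] at h
    simpa using h
  have r3 : 0 * T.m (e 0) + 0 * T.m (e 1) + 1 * T.m (e 2) + 1 * T.m (e 4) = 2 * T.m (e 3) := by
    have h := C.row_emb E le_rfl 3
    rw [sum_fin5] at h
    simp only [M_t5_0] at h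
    simpa using h
  have r4 : 1 * T.m (e 0) + 0 * T.m (e 1) + 0 * T.m (e 2) + 1 * T.m (e 3) = 2 * T.m (e 4) := by
    have h := C.row_emb E le_rfl 4
    rw [sum_fin5] at h
    simp only [M_t5_0] at h
    simpa using h
  have hm0 : T.m (e 0) = 1 * T.m (e 0) := by linarith only [r0, r1, r2, r3, r4]
  have hm1 : T.m (e 1) = 1 * T.m (e 0) := by linarith only [r0, r1, r2, r3, r4]
  have hm2 : T.m (e 2) = 1 * T.m (e 0) := by linarith only [r0, r1, r2, r3, r4]
  have hm3 : T.m (e 3) = 1 * T.m (e 0) := by linarith only [r0, r1, r2, r3, r4]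
  have hm4 : T.m (e 4) = 1 * T.m (e 0) := by linarith only [r0, r1, r2, r3, r4]
  have q0_1 : 1 * T.w (e 0) = 1 * T.w (e 1) := by
    have h := C.rel (E.inj.ne (by decide : (0 : Fin 5) ≠ 1))
    rw [E.eq 0 1 (by decide), E.eq 1 0 (by decide)] at h
    simp only [M_t5_0] at h
    simpa using h
  have q0_4 : 1 * T.w (e 0) = 1 * T.w (e 4) := by
    have h := C.rel (E.inj.ne (by decide : (0 : Fin 5) ≠ 4))
    rw [E.eq 0 4 (by decide), E.eq 4 0 (by decide)] at h
    simp only [M_t5_0] at h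
    simpa using h
  have q1_2 : 1 * T.w (e 1) = 1 * T.w (e 2) := by
    have h := C.rel (E.inj.ne (by decide : (1 : Fin 5) ≠ 2))
    rw [E.eq 1 2 (by decide), E.eq 2 1 (by decide)] at h
    simp only [M_t5_0] at h
    simpa using h
  have q2_3 : 1 * T.w (e 2) = 1 * T.w (e 3) := by
    have h := C.rel (E.inj.ne (by decide : (2 : Fin 5) ≠ 3))
    rw [E.eq 2 3 (by decide), E.eq 3 2 (by decide)] at h
    simp only [M_t5_0] at h
    simpa using h
  have q3_4 : 1 * T.w (e 3) = 1 * T.w (e 4) := by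
    have h := C.rel (E.inj.ne (by decide : (3 : Fin 5) ≠ 4))
    rw [E.eq 3 4 (by decide), E.eq 4 3 (by decide)] at h
    simp only [M_t5_0] at h
    simpa using h
  have hw0 : T.w (e 0) = 1 * T.w (e 0) := by linarith only [q0_1, q0_4, q1_2, q2_3, q3_4]
  have hw1 : T.w (e 1) = 1 * T.w (e 0) := by linarith only [q0_1, q0_4, q1_2, q2_3, q3_4]
  have hw2 : T.w (e 2) = 1 * T.w (e 0) := by linarith only [q0_1, q0_4, q1_2, q2_3, q3_4]
  have hw3 : T.w (e 3) = 1 * T.w (e 0) := by linarith only [q0_1, q0_4, q1_2, q2_3, q3_4]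
  have hw4 : T.w (e 4) = 1 * T.w (e 0) := by linarith only [q0_1, q0_4, q1_2, q2_3, q3_4]
  have a0_0 : T.a (e 0) (e 0) = -2 * T.w (e 0) := C.diag (e 0)
  have a0_1 : T.a (e 0) (e 1) = 1 * T.w (e 0) := by
    have h := C.hb (e 0) (e 1) (E.inj.ne (by decide))
    rw [E.eq 0 1 (by decide)] at h
    simp only [M_t5_0] at h
    simpa using h
  have a0_2 : T.a (e 0) (e 2) = 0 * T.w (e 0) := by
    have h := C.hb (e 0) (e 2) (E.inj.ne (by decide))
    rw [E.eq 0 2 (by decide)] at h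
    simp only [M_t5_0] at h
    simpa using h
  have a0_3 : T.a (e 0) (e 3) = 0 * T.w (e 0) := by
    have h := C.hb (e 0) (e 3) (E.inj.ne (by decide))
    rw [E.eq 0 3 (by decide)] at h
    simp only [M_t5_0] at h
    simpa using h
  have a0_4 : T.a (e 0) (e 4) = 1 * T.w (e 0) := by
    have h := C.hb (e 0) (e 4) (E.inj.ne (by decide))
    rw [E.eq 0 4 (by decide)] at h
    simp only [M_t5_0] at h
    simpa using h
  have a1_1 : T.a (e 1) (e 1) = -2 * T.w (e 1) := C.diag (e 1)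
  have a1_2 : T.a (e 1) (e 2) = 1 * T.w (e 1) := by
    have h := C.hb (e 1) (e 2) (E.inj.ne (by decide))
    rw [E.eq 1 2 (by decide)] at h
    simp only [M_t5_0] at h
    simpa using h
  have a1_3 : T.a (e 1) (e 3) = 0 * T.w (e 1) := by
    have h := C.hb (e 1) (e 3) (E.inj.ne (by decide))
    rw [E.eq 1 3 (by decide)] at h
    simp only [M_t5_0] at h
    simpa using h
  have a1_4 : T.a (e 1) (e 4) = 0 * T.w (e 1) := by
    have h := C.hb (e 1) (e 4) (E.inj.ne (by decide))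
    rw [E.eq 1 4 (by decide)] at h
    simp only [M_t5_0] at h
    simpa using h
  have a2_2 : T.a (e 2) (e 2) = -2 * T.w (e 2) := C.diag (e 2)
  have a2_3 : T.a (e 2) (e 3) = 1 * T.w (e 2) := by
    have h := C.hb (e 2) (e 3) (E.inj.ne (by decide))
    rw [E.eq 2 3 (by decide)] at h
    simp only [M_t5_0] at h
    simpa using h
  have a2_4 : T.a (e 2) (e 4) = 0 * T.w (e 2) := by
    have h := C.hb (e 2) (e 4) (E.inj.ne (by decide))
    rw [E.eq 2 4 (by decide)] at h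
    simp only [M_t5_0] at h
    simpa using h
  have a3_3 : T.a (e 3) (e 3) = -2 * T.w (e 3) := C.diag (e 3)
  have a3_4 : T.a (e 3) (e 4) = 1 * T.w (e 3) := by
    have h := C.hb (e 3) (e 4) (E.inj.ne (by decide))
    rw [E.eq 3 4 (by decide)] at h
    simp only [M_t5_0] at h
    simpa using h
  have a4_4 : T.a (e 4) (e 4) = -2 * T.w (e 4) := C.diag (e 4)
  exact ⟨by linarith only [hm0], by linarith only [hm1], by linarith only [hm2], by linarith only [hm3], by linarith only [hm4], by linarith only [hw0], by linarith only [hw1], by linarith only [hw2], by linarith only [hw3], by linarith only [hw4], by linarith only [a0_0, hw0], by linarith only [a0_1, hw0], by linarith only [a0_2, hw0], by linarith only [a0_3, hw0], by linarith only [a0_4, hw0], by linarith only [a1_1, hw1], by linarith only [a1_2, hw1], by linarith only [a1_3, hw1], by linarith only [a1_4, hw1], by linarith only [a2_2, hw2], by linarith only [a2_3, hw2], by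 linarith only [a2_4, hw2], by linarith only [a3_3, hw3], by linarith only [a3_4, hw3], by linarith only [a4_4, hw4]⟩

end Groth.Agent.Lib.Helper36.Grow
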